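import Groth.Agent.ProEtLib.DCTel

/-!
# Permanence properties of derived complete pro-etale sheaves
-/

set_option backward.isDefEq.respectTransparency false

universe u

open CategoryTheory CategoryTheory.Limits AlgebraicGeometry Opposite

attribute [local instance] HasDerivedCategory.standard

namespace Groth.Agent.ProEtLib.DC

open H9Misc

variable {Λ : Type (u + 1)} [CommRing Λ] {X : Scheme.{u}}

instance preservesFiniteLimits_ev (U : X.ProEt) : PreservesFiniteLimits (ev (Λ := Λ) U) :=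
  comp_preservesFiniteLimits _ _

lemma preservesFiniteColimits_ev {U : X.ProEt} (hU : ProEtS.IsWC U) : PreservesFiniteColimits (ev (Λ := Λ) U) := by
  have : (ev (Λ := Λ) U).Additive := { }
  rw [Functor.preservesFiniteColimits_iff_forall_exact_map_and_epi]
  intro S hS
  have := hS.mono_f
  have := hS.epi_g
  refine ⟨ShortComplex.exact_of_f_is_kernel _ (KernelFork.mapIsLimit _ hS.fIsKernel (ev (Λ := Λ) U)), ?_⟩
  exact (ModuleCat.epi_iff_surjective _).2 (epi_app_surjective hU S.g)

/-- Telescopes in the middle of an exact sequence. -/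
lemma tbm_middle {A B C : ModuleCat.{u + 1} Λ} {i : A ⟶ B} {p : B ⟶ C} (hi : Function.Injective i.hom)
    (hp : Function.Surjective p.hom) (hex : ∀ b, p.hom b = 0 → ∃ a, i.hom a = b) (w : i ≫ p = 0) {f : Λ}
    (hA : TBMod.TBm A f) (hC : TBMod.TBm C f) : TBMod.TBm B f := by
  have w' : ∀ a, p.hom (i.hom a) = 0 := fun a => LinearMap.congr_fun (congrArg ModuleCat.Hom.hom w) a
  constructor
  · refine (injective_iff_map_eq_zero _).2 fun x hx => funext fun k => ?_
    have hx' : ∀ k, x k = f • x (k + 1) := fun k => sub_eq_zero.1 (congrFun hx k)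
    have hz : ∀ k, p.hom (x k) = 0 := hC.eq_zero (fun k => p.hom (x k)) fun k => by
      rw [hx' k, map_smul]
    choose a ha using fun k => hex _ (hz k)
    have := hA.eq_zero a (fun k => hi (by rw [map_smul, ha, ha, ← hx'])) k
    rw [← ha k, this, map_zero]
    rfl
  · intro y
    obtain ⟨z, hz⟩ := hC.exists_seq fun k => p.hom (y k)
    choose x hx using fun k => hp (z k)
    have h0 : ∀ k, p.hom (y k - (x k - f • x (k + 1))) = 0 := fun k => by
      rw [map_sub, map_sub, map_smul, hx, hx, hz k]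
      abel
    choose a ha using fun k => hex _ (h0 k)
    obtain ⟨b, hb⟩ := hA.exists_seq a
    refine ⟨fun k => x k + i.hom (b k), funext fun k => ?_⟩
    show x k + i.hom (b k) - f • (x (k + 1) + i.hom (b (k + 1))) = y k
    rw [hb k, map_add, map_smul, ha, smul_add]
    abel

variable (Λ) in
/-- Derived complete sheaves form a weak Serre subcategory. -/
theorem weakSerre (I : Ideal Λ) :
    (∀ (M N : EtModW.ModP Λ X) (φ : M ⟶ N), ProEtDC.IsDCSheaf Λ I M → ProEtDC.IsDCSheaf Λ I N →
      ProEtDC.IsDCSheaf Λ I (kernel φ) ∧ ProEtDC.IsDCSheaf Λ I (cokernel φ)) ∧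
    ∀ (S : ShortComplex (EtModW.ModP Λ X)), S.ShortExact → ProEtDC.IsDCSheaf Λ I S.X₁ →
      ProEtDC.IsDCSheaf Λ I S.X₃ → ProEtDC.IsDCSheaf Λ I S.X₂ := by
  simp only [isDCSheaf_iff]
  refine ⟨fun M N φ hM hN => ?_, fun S hS h₁ h₃ f hf U hU => ?_⟩
  · have key := fun f hf U hU => (hM f hf U hU).ker_coker ((ev (Λ := Λ) U).map φ).hom (hN f hf U hU)
    refine ⟨fun f hf U hU => ((key f hf U hU).1).of_equiv ?_, fun f hf U hU => ((key f hf U hU).2).of_equiv ?_⟩
    · exact ((PreservesKernel.iso (ev (Λ := Λ) U) φ) ≪≫ ModuleCat.kernelIsoKer _).toLinearEquiv.symm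
    · have := preservesFiniteColimits_ev (Λ := Λ) hU
      exact ((PreservesCokernel.iso (ev (Λ := Λ) U) φ) ≪≫ ModuleCat.cokernelIsoRangeQuotient _).toLinearEquiv.symm
  · have := preservesFiniteColimits_ev (Λ := Λ) hU
    have : (ev (Λ := Λ) U).Additive := { }
    have hS' := hS.map_of_exact (ev (Λ := Λ) U)
    exact tbm_middle ((ModuleCat.mono_iff_injective _).1 hS'.mono_f) ((ModuleCat.epi_iff_surjective _).1 hS'.epi_g)
      ((ShortComplex.moduleCat_exact_iff _).1 hS'.exact) (S.map (ev (Λ := Λ) U)).zero (h₁ f hf U hU) (h₃ f hf U hU)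

/-- Telescopes on a limit. -/
lemma tbm_of_isLimit {K : Type} [SmallCategory K] {D : K ⥤ ModuleCat.{u + 1} Λ} {c : Cone D} (hc : IsLimit c)
    {f : Λ} (h : ∀ k, TBMod.TBm (D.obj k) f) : TBMod.TBm c.pt f := by
  have hF := isLimitOfPreserves (forget (ModuleCat.{u + 1} Λ)) hc
  let eq := Types.isLimitEquivSections hF
  have hext : ∀ x y : c.pt, (∀ k, (c.π.app k).hom x = (c.π.app k).hom y) → x = y := fun x y hxy =>
    eq.injective (Subtype.ext (funext hxy))
  constructor
  · refine (injective_iff_map_eq_zero _).2 fun x hx => funext fun i => hext _ _ fun k => ?_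
    have hx' : ∀ i, x i = f • x (i + 1) := fun i => sub_eq_zero.1 (congrFun hx i)
    rw [Pi.zero_apply, map_zero]
    exact (h k).eq_zero (fun i => (c.π.app k).hom (x i)) (fun i => by rw [hx' i, map_smul]) i
  · intro y
    choose z hz using fun k => (h k).2 fun i => (c.π.app k).hom (y i)
    have hcomp : ∀ {k l} (a : k ⟶ l), (fun i => (D.map a).hom (z k i)) = z l := fun {k l} a =>
      (h l).1 ((funext fun i => by
        show (D.map a).hom (z k i) - f • (D.map a).hom (z k (i + 1)) = _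
        rw [← map_smul, ← map_sub]
        refine (congrArg (D.map a).hom (congrFun (hz k) i)).trans ?_
        exact ConcreteCategory.congr_hom (c.w a) (y i)).trans (hz l).symm)
    let x : ℕ → c.pt := fun i => eq.symm ⟨fun k => z k i, fun {k l} a => congrFun (hcomp a) i⟩
    have hx : ∀ k i, (c.π.app k).hom (x i) = z k i := fun k i =>
      Types.isLimitEquivSections_symm_apply hF _ k
    refine ⟨x, funext fun i => hext _ _ fun k => ?_⟩
    show (c.π.app k).hom (x i - f • x (i + 1)) = _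
    rw [map_sub, map_smul, hx, hx]
    exact congrFun (hz k) i

/-- Limits of derived complete sheaves. -/
theorem isDCSheaf_limit (I : Ideal Λ) (D : ℕᵒᵖ ⥤ EtModW.ModP Λ X) (hD : ∀ n, ProEtDC.IsDCSheaf Λ I (D.obj n)) :
    ProEtDC.IsDCSheaf Λ I (limit D) := by
  refine (isDCSheaf_iff I _).2 fun f hf U hU => ?_
  exact tbm_of_isLimit (isLimitOfPreserves (ev (Λ := Λ) U) (limit.isLimit D))
    fun n => (isDCSheaf_iff I _).1 (hD n) f hf U hU

/-- A constant sheaf on a module killed by a power of `f`. -/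
lemma tbm_constant (M : ModuleCat.{u + 1} Λ) {f : Λ} {n : ℕ} (hn : 1 ≤ n) (hM : f ^ n • 𝟙 M = 0) (U : X.ProEt) :
    TBMod.TBm (((constantSheaf (Scheme.ProEt.topology X) (ModuleCat.{u + 1} Λ)).obj M).obj.obj (op U)) f := by
  refine TBMod.TBm.root hn ?_
  let T := Scheme.ProEt.topology X
  let G := (constantSheaf T (ModuleCat.{u + 1} Λ)).obj M
  let η := toSheafify T ((Functor.const (X.ProEt)ᵒᵖ).obj M)
  have h0 : f ^ n • 𝟙 G = 0 := by
    apply Sheaf.hom_ext
    apply sheafify_hom_ext T _ _ G.property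
    show η ≫ (f ^ n • 𝟙 G.obj) = η ≫ 0
    erw [Linear.comp_smul, Category.comp_id, comp_zero]
    ext V x
    show f ^ n • (η.app V).hom x = 0
    rw [← map_smul]
    exact (congrArg (η.app V).hom (LinearMap.congr_fun (congrArg ModuleCat.Hom.hom hM) x)).trans (map_zero _)
  have hz : TBMod.mulBy (G.obj.obj (op U)) (f ^ n) = 0 := AddMonoidHom.ext fun x =>
    congrArg (fun t : G ⟶ G => (t.hom.app (op U)).hom x) h0
  show TelBij.TB (TBMod.mulBy (G.obj.obj (op U)) (f ^ n))
  rw [hz]
  exact TelBij.tb_zero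

variable (X) in
/-- The completed constant sheaf is derived complete. -/
theorem isDCSheaf_lambdaHat (I : Ideal Λ) : ProEtDC.IsDCSheaf Λ I (ProEtDC.lambdaHat Λ X I) := by
  refine isDCSheaf_limit I _ fun n => (isDCSheaf_iff I _).2 fun f hf U _ =>
    tbm_constant _ (Nat.le_add_left 1 n.unop) ?_ U
  refine ModuleCat.hom_ext (LinearMap.ext fun x => ?_)
  obtain ⟨x, rfl⟩ := Submodule.Quotient.mk_surjective _ x
  show f ^ (n.unop + 1) • (Submodule.Quotient.mk x : Λ ⧸ (I ^ n.unop • ⊤ : Submodule Λ Λ)) = 0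
  rw [← Submodule.Quotient.mk_smul, Submodule.Quotient.mk_eq_zero, pow_succ, mul_smul]
  exact Submodule.smul_mem_smul (Ideal.pow_mem_pow hf _) trivial

/-- Derived Nakayama for sheaves. -/
theorem isZero_of_mod_eq_zero {r : ℕ} (a : Fin r → Λ) (M : EtModW.ModP Λ X)
    (hM : ProEtDC.IsDCSheaf Λ (Ideal.span (Set.range a)) M) (h0 : ProEtDC.ModGensIsZero Λ a M) : IsZero M := by
  have hs : ∀ U : X.ProEt, ProEtS.IsWC U → Subsingleton (M.obj.obj (op U)) := fun U hU => by
    refine TBMod.subsingleton_of_smul_top_eq_top (List.ofFn a) _ (fun f hf =>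
      (isDCSheaf_iff _ M).1 hM f (Ideal.subset_span ((List.mem_ofFn' a f).1 hf)) U hU) (eq_top_iff.2 fun x _ => ?_)
    have : Epi (ProEtDC.gensMap Λ a M) := h0
    obtain ⟨s, rfl⟩ := epi_app_surjective hU (ProEtDC.gensMap Λ a M) x
    have e : ProEtDC.gensMap Λ a M = ∑ k, biproduct.π _ k ≫ ProEtDC.smulHom Λ M (a k) := biproduct.desc_eq
    have : (ev (Λ := Λ) U).Additive := { }
    have e2 := congrArg (fun t => (ev (Λ := Λ) U).map t) e
    simp only [Functor.map_sum] at e2
    show ((ev (Λ := Λ) U).map (ProEtDC.gensMap Λ a M)).hom s ∈ _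
    rw [e2, ModuleCat.hom_sum, LinearMap.sum_apply]
    refine Submodule.sum_mem _ fun k _ => ?_
    exact Submodule.smul_mem_smul (Ideal.subset_span ((List.mem_ofFn' a (a k)).2 ⟨k, rfl⟩)) trivial
  refine (IsZero.iff_id_eq_zero M).2 (isSeparating _ _ fun P hP g => ?_)
  obtain ⟨U, hU, rfl⟩ := hP
  have := hs U hU
  exact (sec U M).injective (Subsingleton.elim _ _)

end Groth.Agent.ProEtLib.DC
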