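import Groth.Agent.ProEtLib.DCBasic
import Groth.Agent.ProEtLib.LanSheaf

/-!
# Global generators of locally constant sheaves of finite presentation on a w-contractible affine
-/

set_option backward.isDefEq.respectTransparency false

universe u

open CategoryTheory CategoryTheory.Limits AlgebraicGeometry Opposite

namespace Groth.Agent.ProEtLib.DC

variable {Λ : Type (u + 1)} [CommRing Λ] {X : Scheme.{u}}

local notation "J" => Scheme.ProEt.topology X

/-- The structure morphism, to the terminal object. -/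
noncomputable abbrev toTop (Y : X.ProEt) : Y ⟶ ProEtS.topP X :=
  MorphismProperty.Over.homMk Y.hom (Category.comp_id _)

/-- `X` is terminal. -/
noncomputable def isTerminalTop : IsTerminal (ProEtS.topP X) :=
  IsTerminal.ofUniqueHom toTop fun Y f => MorphismProperty.Over.Hom.ext
    ((Category.comp_id f.left).symm.trans (MorphismProperty.Over.w f))

lemma exists_mem_span_of_constant {U : X.ProEt} {Q : EtModW.ModP Λ X} (M : Type (u + 1)) [AddCommGroup M]
    [Module Λ M] [Module.Finite Λ M]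
    (e : Q.over U ≅ (constantSheaf ((Scheme.ProEt.topology X).over U) (ModuleCat.{u + 1} Λ)).obj (ModuleCat.of Λ M)) :
    ∃ (m : ℕ) (u : Fin m → Q.obj.obj (op U)), ∀ {Y : X.ProEt} (f : Y ⟶ U) (x : Q.obj.obj (op Y)),
      ∃ S ∈ Scheme.ProEt.topology X Y, ∀ {Z : X.ProEt} (g : Z ⟶ Y), S g →
        (Q.obj.map g.op).hom x ∈ Submodule.span Λ (Set.range fun i => (Q.obj.map (g ≫ f).op).hom (u i)) := by
  obtain ⟨m, gen, hgen⟩ := Module.Finite.exists_fin (R := Λ) (M := M)
  let K := (Scheme.ProEt.topology X).over U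
  let P : (Over U)ᵒᵖ ⥤ ModuleCat.{u + 1} Λ := (Functor.const _).obj (ModuleCat.of Λ M)
  let η : P ⟶ sheafify K P := toSheafify K P
  let back : ∀ W : Over U, ModuleCat.of Λ M ⟶ Q.obj.obj (op W.left) := fun W =>
    η.app (op W) ≫ e.inv.hom.app (op W)
  refine ⟨m, fun i => (back (Over.mk (𝟙 U))).hom (gen i), fun {Y} f x => ?_⟩
  have : Presheaf.IsLocallySurjective K η := inferInstance
  let x' : (sheafify K P).obj (op (Over.mk f)) := (e.hom.hom.app (op (Over.mk f))).hom x
  refine ⟨Sieve.overEquiv (Over.mk f) (Presheaf.imageSieve η x'),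
    ((Scheme.ProEt.topology X).mem_over_iff _).1 (Presheaf.imageSieve_mem K η x'), fun {Z} g hg => ?_⟩
  let g' : Over.mk (g ≫ f) ⟶ Over.mk f := Over.homMk g
  obtain ⟨z, hz⟩ := (Sieve.overEquiv_iff _ _).1 hg
  have hz' : (η.app (op (Over.mk (g ≫ f)))).hom z = ((sheafify K P).map g'.op).hom x' := hz
  have hback : (back (Over.mk (g ≫ f))).hom z = (Q.obj.map g.op).hom x := by
    show (e.inv.hom.app _).hom ((η.app _).hom z) = _
    refine (congrArg (e.inv.hom.app (op (Over.mk (g ≫ f)))).hom hz').trans ?_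
    refine (ConcreteCategory.congr_hom (e.inv.hom.naturality g'.op) x').trans ?_
    show (Q.obj.map g.op).hom ((e.inv.hom.app (op (Over.mk f))).hom x') = _
    exact congrArg _ (ConcreteCategory.congr_hom
      (congrArg (fun t : Q.over U ⟶ Q.over U => t.hom.app (op (Over.mk f))) e.hom_inv_id) x)
  have hnat : ∀ v : M, (back (Over.mk (g ≫ f))).hom v =
      (Q.obj.map (g ≫ f).op).hom ((back (Over.mk (𝟙 U))).hom v) := fun v => by
    let h : Over.mk (g ≫ f) ⟶ Over.mk (𝟙 U) := Over.homMk (g ≫ f) (Category.comp_id _)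
    refine Eq.trans ?_ (ConcreteCategory.congr_hom (e.inv.hom.naturality h.op) ((η.app (op (Over.mk (𝟙 U)))).hom v))
    exact congrArg (e.inv.hom.app (op (Over.mk (g ≫ f)))).hom (ConcreteCategory.congr_hom (η.naturality h.op) v)
  have hzspan : z ∈ Submodule.span Λ (Set.range gen) := hgen ▸ Submodule.mem_top
  have := Submodule.mem_map_of_mem (f := (back (Over.mk (g ≫ f))).hom) hzspan
  rw [Submodule.map_span, ← Set.range_comp, hback] at this
  refine Submodule.span_mono ?_ this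
  rintro _ ⟨i, rfl⟩
  exact ⟨i, (hnat (gen i)).symm⟩

/-- **Finitely many global sections generate a locally constant sheaf of finite presentation.** -/
theorem exists_global_generators (hX : Criterion (ProEtS.topP X)) {Q : EtModW.ModP Λ X}
    (hQ : EtModW.IsFPLocConstP Λ Q) :
    ∃ (t : ℕ) (q : Fin t → Q.obj.obj (op (ProEtS.topP X))), ∀ {Y : X.ProEt} (x : Q.obj.obj (op Y)),
      ∃ S ∈ Scheme.ProEt.topology X Y, ∀ {Z : X.ProEt} (g : Z ⟶ Y), S g →
        (Q.obj.map g.op).hom x ∈ Submodule.span Λ (Set.range fun i => (Q.obj.map (toTop Z).op).hom (q i)) := by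
  classical
  obtain ⟨ι, U, hU, hloc⟩ := hQ
  have hloc' : ∀ i, ∃ (m : ℕ) (u : Fin m → Q.obj.obj (op (U i))), ∀ {Y : X.ProEt} (f : Y ⟶ U i)
      (x : Q.obj.obj (op Y)), ∃ S ∈ Scheme.ProEt.topology X Y, ∀ {Z : X.ProEt} (g : Z ⟶ Y), S g →
        (Q.obj.map g.op).hom x ∈ Submodule.span Λ (Set.range fun j => (Q.obj.map (g ≫ f).op).hom (u j)) := fun i => by
    obtain ⟨M, _, _, _, ⟨e⟩⟩ := hloc i
    exact exists_mem_span_of_constant M e
  choose m u hu using hloc'
  obtain ⟨n, W, -, hd, hcov, hW⟩ := hX _ hU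
  have hex : ∀ k, ∃ i, ∃ b : opObj (ProEtS.topP X) (W k) ⟶ U i, b ≫ toTop (U i) = opHom _ (W k) := fun k => by
    obtain ⟨_, b, _, ⟨i⟩, hb⟩ := hW k
    exact ⟨i, b, hb⟩
  choose idx b hb using hex
  have hc : ∀ x, ∃ k, x ∈ W k := fun x => Set.mem_iUnion.1 (hcov.symm ▸ Set.mem_univ x)
  let G := Q.obj ⋙ forget (ModuleCat.{u + 1} Λ)
  let Gs := (sheafCompose J (forget (ModuleCat.{u + 1} Λ))).obj Q
  have hglue : ∀ σ : ∀ k, Q.obj.obj (op (opObj (ProEtS.topP X) (W k))),
      ∃ s : Q.obj.obj (op (ProEtS.topP X)), ∀ k, (Q.obj.map (opHom _ (W k)).op).hom s = σ k := by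
    intro σ
    have : ∀ k, IsOpenImmersion (opHom (ProEtS.topP X) (W k)).left := fun k =>
      inferInstanceAs (IsOpenImmersion (W k).ι)
    refine (existsUnique_glue G ((isSheaf_iff_isSheaf_of_type _ _).1 Gs.2)
      (fun Z _ => subsingleton_of_isEmpty Gs Z) (ProEtS.topP X) (fun k => opObj _ (W k)) (fun k => opHom _ (W k))
      (fun k l hkl => ?_) (fun x => ?_) σ).exists
    · show Disjoint (Set.range (W k).ι) (Set.range (W l).ι)
      simp only [Scheme.Opens.range_ι]
      exact hd hkl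
    · obtain ⟨k, hk⟩ := hc x
      exact ⟨k, ⟨⟨x, hk⟩, rfl⟩⟩
  choose q hq using fun p : Σ k, Fin (m (idx k)) =>
    hglue fun k => if h : k = p.1 then (Q.obj.map (eqToHom (congrArg (fun l => opObj (ProEtS.topP X) (W l)) h) ≫ b p.1).op).hom (u _ p.2) else 0
  let eq := Fintype.equivFin (Σ k, Fin (m (idx k)))
  refine ⟨_, fun i => q (eq.symm i), fun {Y} x => ?_⟩
  let R : Sieve (ProEtS.topP X) :=
    Sieve.generate (Presieve.ofArrows (fun k => opObj (ProEtS.topP X) (W k)) fun k => opHom _ (W k))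
  have hR : R ∈ Scheme.ProEt.topology X (ProEtS.topP X) := by
    refine GrothendieckTopology.superset_covering _ ?_ (opens_mem_topology (ProEtS.topP X)
      (fun k : ULift.{u} (Fin n) => W k.down) fun y => ⟨⟨(hc y).choose⟩, (hc y).choose_spec⟩)
    rintro Z f ⟨_, a, _, ⟨k⟩, rfl⟩
    exact ⟨_, a, _, ⟨k.down⟩, rfl⟩
  let S : Sieve Y :=
    { arrows := fun {Z} g => (Q.obj.map g.op).hom x ∈
        Submodule.span Λ (Set.range fun i => (Q.obj.map (toTop Z).op).hom (q (eq.symm i)))
      downward_closed := fun {Z Z'} g hg h => by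
        have := Submodule.mem_map_of_mem (f := (Q.obj.map h.op).hom) hg
        rw [Submodule.map_span, ← Set.range_comp] at this
        rw [op_comp, Q.obj.map_comp]
        refine Submodule.span_mono ?_ this
        rintro _ ⟨i, rfl⟩
        refine ⟨i, ?_⟩
        show (Q.obj.map (toTop Z').op).hom _ = (Q.obj.map h.op).hom ((Q.obj.map (toTop Z).op).hom _)
        rw [← ConcreteCategory.comp_apply, ← Q.obj.map_comp, ← op_comp, isTerminalTop.hom_ext (h ≫ toTop Z) (toTop Z')] }
  refine ⟨S, (Scheme.ProEt.topology X).transitive ((Scheme.ProEt.topology X).pullback_stable (toTop Y) hR) S ?_,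
    fun g hg => hg⟩
  rintro V f ⟨_, c, _, ⟨k⟩, hck⟩
  obtain ⟨T, hT, hspan⟩ := hu (idx k) (c ≫ b k) ((Q.obj.map f.op).hom x)
  refine GrothendieckTopology.superset_covering _ (fun Z g hg => ?_) hT
  show (Q.obj.map (g ≫ f).op).hom x ∈ Submodule.span Λ (Set.range fun i => (Q.obj.map (toTop Z).op).hom (q (eq.symm i)))
  rw [op_comp, Q.obj.map_comp]
  refine Submodule.span_mono ?_ (hspan g hg)
  rintro _ ⟨j, rfl⟩
  refine ⟨eq ⟨k, j⟩, ?_⟩
  show (Q.obj.map (toTop Z).op).hom (q (eq.symm (eq ⟨k, j⟩))) = _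
  rw [eq.symm_apply_apply, isTerminalTop.hom_ext (toTop Z) ((g ≫ c) ≫ opHom _ (W k)), op_comp, Q.obj.map_comp,
    ConcreteCategory.comp_apply, hq ⟨k, j⟩ k, dif_pos rfl, eqToHom_refl, Category.id_comp,
    ← ConcreteCategory.comp_apply, ← Q.obj.map_comp, ← op_comp, Category.assoc]

end Groth.Agent.ProEtLib.DC
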