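import Groth.Agent.ProEtLib.DCSeries
import Mathlib.RingTheory.AdicCompletion.Basic

/-!
# Truncated polynomial modules computing `Λ / Iⁿ`
-/

universe v

namespace Groth.Agent.ProEtLib.DC.Series

open MvPolynomial

variable {A : Type v} [CommRing A] {r : ℕ} (a : Fin r → A)

local notation "P" => MvPolynomial (Fin r) A
local notation "𝔪" => MvPolynomial.idealOfVars (Fin r) A
local notation "I" => Ideal.span (Set.range a)

variable (A r) in
/-- `Λ[T] / (T)ⁿ`. -/
abbrev Q (n : ℕ) := P ⧸ (𝔪 ^ n).restrictScalars A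

variable (A r) in
/-- `(Λ[T] / (T)ⁿ)^r`. -/
abbrev Q' (n : ℕ) := Fin r → Q A r n

/-- The projection. -/
noncomputable abbrev mkQ (n : ℕ) : P →ₗ[A] Q A r n := Submodule.mkQ _

/-- Transition maps. -/
noncomputable def res {m n : ℕ} (h : m ≤ n) : Q A r n →ₗ[A] Q A r m :=
  Submodule.factor fun _ hx => Ideal.pow_le_pow_right h hx

@[simp] lemma res_mk {m n : ℕ} (h : m ≤ n) (x : P) : res h (mkQ n x) = mkQ m x := rfl

/-- Transition maps on tuples. -/
noncomputable def res' {m n : ℕ} (h : m ≤ n) : Q' A r n →ₗ[A] Q' A r m :=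
  (res h).compLeft (Fin r)

/-- Projection on tuples. -/
noncomputable def mkQ' (n : ℕ) : (Fin r → P) →ₗ[A] Q' A r n := (mkQ n).compLeft (Fin r)

lemma mkQ'_surjective (n : ℕ) : Function.Surjective (mkQ' (A := A) (r := r) n) := fun g =>
  ⟨fun j => (Submodule.mkQ_surjective _ (g j)).choose,
    funext fun j => (Submodule.mkQ_surjective _ (g j)).choose_spec⟩

lemma res'_surjective {m n : ℕ} (h : m ≤ n) : Function.Surjective (res' (A := A) (r := r) h) := fun g => by
  obtain ⟨g, rfl⟩ := mkQ'_surjective m g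
  exact ⟨mkQ' n g, rfl⟩

lemma res_surjective {m n : ℕ} (h : m ≤ n) : Function.Surjective (res (A := A) (r := r) h) := fun g => by
  obtain ⟨g, rfl⟩ := Submodule.mkQ_surjective _ g
  exact ⟨mkQ n g, rfl⟩

lemma res'_res' {l m n : ℕ} (h : l ≤ m) (h' : m ≤ n) :
    (res' h).comp (res' (A := A) (r := r) h') = res' (h.trans h') := by
  refine LinearMap.ext fun g => ?_
  obtain ⟨g, rfl⟩ := mkQ'_surjective n g
  rfl

/-- Multiplication by a polynomial. -/
noncomputable def mulQ (n : ℕ) (p : P) : Q A r n →ₗ[A] Q A r n :=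
  Submodule.mapQ _ _ (LinearMap.mulLeft A p) fun _ hx => Ideal.mul_mem_left _ p hx

/-- The truncated Koszul map. -/
noncomputable def kzQ (n : ℕ) : Q' A r n →ₗ[A] Q A r n :=
  ∑ j, (mulQ n (X j - C (a j))).comp (LinearMap.proj j)

lemma kzQ_mk (n : ℕ) (g : Fin r → P) : kzQ a n (mkQ' n g) = mkQ n (kz a g) := by
  rw [kz_apply, map_sum, kzQ, LinearMap.sum_apply]
  rfl

lemma res_kzQ {m n : ℕ} (h : m ≤ n) : (res h).comp (kzQ a n) = (kzQ a m).comp (res' h) := by
  refine LinearMap.ext fun g => ?_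
  obtain ⟨g, rfl⟩ := mkQ'_surjective n g
  show res h (kzQ a n (mkQ' n g)) = kzQ a m (mkQ' m g)
  rw [kzQ_mk, kzQ_mk, res_mk]

/-- Evaluation modulo `Iⁿ`. -/
noncomputable def evQ (n : ℕ) : Q A r n →ₗ[A] A ⧸ (I ^ n • ⊤ : Submodule A A) :=
  Submodule.mapQ _ _ (aeval a).toLinearMap fun x hx => by
    show aeval a x ∈ (I ^ n • ⊤ : Submodule A A)
    rw [Ideal.smul_eq_mul, Ideal.mul_top]
    exact eval_mem a n hx

lemma evQ_mk (n : ℕ) (x : P) : evQ a n (mkQ n x) = Submodule.Quotient.mk (aeval a x) := rfl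

lemma evQ_res {m n : ℕ} (h : m ≤ n) :
    (evQ a m).comp (res h) = (Submodule.factorPow I A h).comp (evQ a n) := by
  refine LinearMap.ext fun g => ?_
  obtain ⟨g, rfl⟩ := Submodule.mkQ_surjective _ g
  rfl

lemma evQ_surjective (n : ℕ) : Function.Surjective (evQ a n) := fun y => by
  obtain ⟨y, rfl⟩ := Submodule.Quotient.mk_surjective _ y
  exact ⟨mkQ n (C y), by rw [evQ_mk, aeval_C]; rfl⟩

lemma ker_evQ_le (n : ℕ) : LinearMap.ker (evQ a n) ≤ LinearMap.range (kzQ a n) := fun x hx => by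
  obtain ⟨x, rfl⟩ := Submodule.mkQ_surjective _ x
  have : aeval a x ∈ I ^ n := by
    have h := (Submodule.Quotient.mk_eq_zero _).1 ((evQ_mk a n x).symm.trans hx)
    rwa [Ideal.smul_eq_mul, Ideal.mul_top] at h
  obtain ⟨g, hg⟩ := mem_range_kz a n this
  refine ⟨mkQ' n g, (kzQ_mk a n g).trans ?_⟩
  exact ((Submodule.Quotient.eq _).2 hg).symm

/-- The kernel of the Koszul map. -/
noncomputable abbrev K : Submodule A (Fin r → P) := (LinearMap.ker (kz a)).restrictScalars A

/-- The kernel of the Koszul map, truncated. -/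
noncomputable def kIncl (n : ℕ) : K a →ₗ[A] Q' A r n := (mkQ' n).comp (K a).subtype

lemma res_kIncl {m n : ℕ} (h : m ≤ n) : (res' h).comp (kIncl a n) = kIncl a m :=
  LinearMap.ext fun _ => rfl

lemma kzQ_kIncl (n : ℕ) : (kzQ a n).comp (kIncl a n) = 0 :=
  LinearMap.ext fun k => by
    show kzQ a n (mkQ' n k.1) = 0
    rw [kzQ_mk, show kz a k.1 = 0 from k.2, map_zero]

lemma exists_ker_kzQ [IsNoetherianRing A] : ∃ c, ∀ n, ∀ x ∈ LinearMap.ker (kzQ a (n + c)),
    res' (Nat.le_add_right n c) x ∈ LinearMap.range (kIncl a n) := by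
  obtain ⟨c, hc⟩ := exists_ker_kz a
  refine ⟨c, fun n x hx => ?_⟩
  obtain ⟨g, rfl⟩ := mkQ'_surjective (n + c) x
  rw [LinearMap.mem_ker, kzQ_mk] at hx
  obtain ⟨k, hk, hgk⟩ := hc n g ((Submodule.Quotient.mk_eq_zero _).1 hx)
  refine ⟨⟨k, hk⟩, funext fun j => ((Submodule.Quotient.eq _).2 ?_).symm⟩
  exact hgk j

section Coef

/-- The exponent attached to a function. -/
noncomputable abbrev expo (α : Fin r → ℕ) : Fin r →₀ ℕ := Finsupp.equivFunOnFinite.symm α

/-- The total degree. -/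
def deg (α : Fin r → ℕ) : ℕ := ∑ i, α i

lemma degree_expo (α : Fin r → ℕ) : (expo α).degree = deg α := by
  simp [Finsupp.degree_eq_sum, deg]

/-- The coefficient of a monomial of degree less than `n`. -/
noncomputable def coef {n : ℕ} (α : Fin r → ℕ) (h : deg α < n) : Q A r n →ₗ[A] A :=
  Submodule.liftQ _ (MvPolynomial.lcoeff A (expo α)) fun _ hx =>
    (MvPolynomial.mem_pow_idealOfVars_iff' n _).1 hx _ (by rwa [degree_expo])

lemma coef_mk {n : ℕ} (α : Fin r → ℕ) (h : deg α < n) (x : P) :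
    coef α h (mkQ n x) = coeff (expo α) x := rfl

lemma coef_res {m n : ℕ} (hmn : m ≤ n) (α : Fin r → ℕ) (h : deg α < m) :
    (coef (A := A) α h).comp (res hmn) = coef α (h.trans_le hmn) := by
  refine LinearMap.ext fun g => ?_
  obtain ⟨g, rfl⟩ := Submodule.mkQ_surjective _ g
  rfl

lemma deg_update_le (α : Fin r → ℕ) (j : Fin r) : deg (Function.update α j (α j - 1)) ≤ deg α :=
  Finset.sum_le_sum fun i _ => by
    by_cases hi : i = j
    · subst hi; simp
    · simp [Function.update_of_ne hi]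

/-- The coefficient shifted by the `j`th variable. -/
noncomputable def coefShift {n : ℕ} (α : Fin r → ℕ) (h : deg α < n) (j : Fin r) : Q A r n →ₗ[A] A :=
  if α j = 0 then 0 else coef (Function.update α j (α j - 1)) ((deg_update_le α j).trans_lt h)

lemma coef_kzQ {n : ℕ} (α : Fin r → ℕ) (h : deg α < n) :
    (coef α h).comp (kzQ a n) =
      ∑ j, LinearMap.comp (coefShift α h j - a j • coef α h : Q A r n →ₗ[A] A) (LinearMap.proj j) := by
  refine LinearMap.ext fun g => ?_
  obtain ⟨g, rfl⟩ := mkQ'_surjective n g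
  rw [LinearMap.comp_apply, kzQ_mk, coef_mk, kz_apply, coeff_sum, LinearMap.sum_apply]
  refine Finset.sum_congr rfl fun j _ => ?_
  have hj : expo α j = α j := rfl
  rw [sub_mul, coeff_sub, coeff_C_mul, mul_comm, coeff_mul_X' ]
  show _ = coefShift α h j (mkQ n (g j)) - a j * coef α h (mkQ n (g j))
  refine congrArg₂ (· - ·) ?_ rfl
  unfold coefShift
  by_cases h0 : α j = 0
  · simp [h0]
  · rw [if_pos (by rw [Finsupp.mem_support_iff, hj]; exact h0), if_neg h0, coef_mk]
    refine congrArg (coeff · (g j)) (Finsupp.ext fun i => ?_)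
    by_cases hi : i = j
    · subst hi; simp
    · simp [hi, Finsupp.single_eq_of_ne hi]

/-- Exponents of degree less than `n`. -/
noncomputable def D (r n : ℕ) : Finset (Fin r → ℕ) :=
  (Fintype.piFinset fun _ : Fin r => Finset.range n).filter fun α => deg α < n

lemma mem_D {n : ℕ} {α : Fin r → ℕ} : α ∈ D r n ↔ deg α < n := by
  simp only [D, Finset.mem_filter, Fintype.mem_piFinset, Finset.mem_range, and_iff_right_iff_imp]
  exact fun h i => (Finset.single_le_sum (f := α) (fun _ _ => Nat.zero_le _) (Finset.mem_univ i)).trans_lt h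

/-- The monomial map. -/
noncomputable def mon (n : ℕ) (α : Fin r → ℕ) : A →ₗ[A] Q A r n := (mkQ n).comp (monomial (expo α))

lemma evQ_mon (n : ℕ) (α : Fin r → ℕ) :
    (evQ a n).comp (mon n α) = (∏ j, a j ^ α j) • Submodule.mkQ _ := by
  refine LinearMap.ext fun x => ?_
  show evQ a n (mkQ n (monomial (expo α) x)) = _
  rw [evQ_mk, aeval_monomial, Finsupp.prod_fintype _ _ (fun i => pow_zero _)]
  rw [LinearMap.smul_apply, Submodule.mkQ_apply, ← Submodule.Quotient.mk_smul, smul_eq_mul]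
  exact congrArg Submodule.Quotient.mk (mul_comm _ _)

lemma sum_mon_coef (n : ℕ) :
    (∑ α ∈ (D r n).attach, (mon n α.1).comp (coef α.1 (mem_D.1 α.2)) : Q A r n →ₗ[A] Q A r n) =
      LinearMap.id := by
  classical
  refine LinearMap.ext fun g => ?_
  obtain ⟨g, rfl⟩ := Submodule.mkQ_surjective _ g
  rw [LinearMap.sum_apply]
  show ∑ α ∈ (D r n).attach, mkQ n (monomial (expo α.1) (coeff (expo α.1) g)) = mkQ n g
  rw [Finset.sum_attach (D r n) fun α => mkQ n (monomial (expo α) (coeff (expo α) g)), ← map_sum]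
  refine (Submodule.Quotient.eq _).2 ((mem_pow_idealOfVars_iff' n _).2 fun β hβ => ?_)
  rw [coeff_sub, coeff_sum, Finset.sum_eq_single (β : Fin r → ℕ)]
  · simp
  · intro α _ hne
    rw [coeff_monomial, if_neg]
    exact fun e => hne (by simpa using congrArg (fun t : Fin r →₀ ℕ => (t : Fin r → ℕ)) e)
  · intro hn
    exact absurd (mem_D.2 (by simpa [Finsupp.degree_eq_sum, deg] using hβ)) hn

end Coef

end Groth.Agent.ProEtLib.DC.Series
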