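import Groth.Agent.ProEtLib.DCBasic
import Groth.Agent.ProEtLib.DCTrunc

/-!
# Maps out of the completed constant sheaf

A map from the constant sheaf `Λ` to a derived complete sheaf factors through `Λ^ = lim Λ/Iⁿ`.
-/

set_option backward.isDefEq.respectTransparency false

universe u

open CategoryTheory CategoryTheory.Limits AlgebraicGeometry Opposite

namespace Groth.Agent.ProEtLib.DC

open H9Misc Series

variable {Λ : Type (u + 1)} [CommRing Λ] {X : Scheme.{u}}

local notation "J" => Scheme.ProEt.topology X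

/-- Derived completeness gives bijective telescopes on all sections. -/
lemma tbm_all {I : Ideal Λ} {F : EtModW.ModP Λ X} (hF : ProEtDC.IsDCSheaf Λ I F) {f : Λ} (hf : f ∈ I)
    (U : X.ProEt) : TBMod.TBm (F.obj.obj (op U)) f := by
  have hWC := fun V hV => (isDCSheaf_iff I F).1 hF f hf V hV
  obtain ⟨V, p, hp, hV⟩ := exists_wc_cover U
  let G := F.obj ⋙ forget (ModuleCat.{u + 1} Λ)
  have hG : Presieve.IsSheaf J G :=
    (isSheaf_iff_isSheaf_of_type _ _).1 ((sheafCompose J (forget (ModuleCat.{u + 1} Λ))).obj F).2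
  have hs : Presieve.IsSheafFor G (Presieve.singleton p) := Presieve.isSheafFor_iff_generate _ |>.2 (hG _ hp)
  have hinj : ∀ x y : F.obj.obj (op U), (F.obj.map p.op).hom x = (F.obj.map p.op).hom y → x = y :=
    fun x y h => hs.isSeparatedFor.ext fun Z g hg => by obtain ⟨⟩ := hg; exact h
  constructor
  · refine (injective_iff_map_eq_zero _).2 fun x hx => funext fun k => hinj _ _ ?_
    have hx' : ∀ k, x k = f • x (k + 1) := fun k => sub_eq_zero.1 (congrFun hx k)
    rw [Pi.zero_apply, map_zero]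
    exact (hWC V hV).eq_zero (fun k => (F.obj.map p.op).hom (x k)) (fun k => by rw [hx' k, map_smul]) k
  · intro y
    obtain ⟨z, hz⟩ := (hWC V hV).exists_seq fun k => (F.obj.map p.op).hom (y k)
    have hcomp : ∀ {W : X.ProEt} (q₁ q₂ : W ⟶ V), q₁ ≫ p = q₂ ≫ p → ∀ k,
        (F.obj.map q₁.op).hom (z k) = (F.obj.map q₂.op).hom (z k) := by
      intro W q₁ q₂ hq k
      obtain ⟨W', w, hw, hW'⟩ := exists_wc_cover W
      refine (Presieve.isSheafFor_iff_generate _ |>.2 (hG _ hw)).isSeparatedFor.ext fun Z g hg => ?_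
      obtain ⟨⟩ := hg
      refine sub_eq_zero.1 ((hWC W' hW').eq_zero (fun i => (F.obj.map w.op).hom ((F.obj.map q₁.op).hom (z i)) -
        (F.obj.map w.op).hom ((F.obj.map q₂.op).hom (z i))) (fun i => ?_) k)
      have e : (F.obj.map q₁.op).hom ((F.obj.map p.op).hom (y i)) =
          (F.obj.map q₂.op).hom ((F.obj.map p.op).hom (y i)) := by
        rw [← ConcreteCategory.comp_apply, ← ConcreteCategory.comp_apply, ← F.obj.map_comp, ← F.obj.map_comp,
          ← op_comp, ← op_comp, hq]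
      rw [hz i]
      simp only [map_add, map_smul, e, smul_sub]
      abel
    choose x hx _ using fun k => Presieve.isSheafFor_singleton.1 hs (z k) fun q₁ q₂ hq => hcomp q₁ q₂ hq k
    refine ⟨x, funext fun k => hinj _ _ ?_⟩
    show (F.obj.map p.op).hom (x k - f • x (k + 1)) = _
    rw [map_sub, map_smul, sub_eq_iff_eq_add]
    refine ((hx k).trans (hz k)).trans ?_
    exact congrArg (fun t => (F.obj.map p.op).hom (y k) + f • t) (hx (k + 1)).symm

variable (Λ X) in
/-- The constant sheaf functor. -/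
noncomputable abbrev cst : ModuleCat.{u + 1} Λ ⥤ EtModW.ModP Λ X := constantSheaf J (ModuleCat.{u + 1} Λ)

instance additive_ev (U : X.ProEt) : (ev (Λ := Λ) U).Additive := { }

instance linear_ev (U : X.ProEt) : (ev (Λ := Λ) U).Linear Λ := { }

instance preservesFiniteLimits_cst : PreservesFiniteLimits (cst Λ X) :=
  comp_preservesFiniteLimits _ _

instance preservesEpi_cst : (cst Λ X).PreservesEpimorphisms :=
  Functor.preservesEpimorphisms_comp _ _

instance additive_cst : (cst Λ X).Additive :=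
  Functor.additive_of_preserves_binary_products _

instance linear_cst : (cst Λ X).Linear Λ where
  map_smul {M N} f c := by
    apply Sheaf.hom_ext
    apply sheafify_hom_ext J _ _ ((cst Λ X).obj N).property
    show toSheafify J _ ≫ sheafifyMap J ((Functor.const _).map (c • f)) =
      toSheafify J _ ≫ (c • sheafifyMap J ((Functor.const _).map f))
    erw [Linear.comp_smul, ← toSheafify_naturality, ← toSheafify_naturality]
    erw [show ((Functor.const (X.ProEt)ᵒᵖ).map (c • f)) = c • (Functor.const (X.ProEt)ᵒᵖ).map f from rfl]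
    exact Linear.smul_comp _ _ _ _ _ _

/-- Sections of constant sheaves. -/
noncomputable abbrev E (U : X.ProEt) : ModuleCat.{u + 1} Λ ⥤ ModuleCat.{u + 1} Λ := cst Λ X ⋙ ev U

/-- `E` on linear maps. -/
noncomputable abbrev Em (U : X.ProEt) {M N : Type (u + 1)} [AddCommGroup M] [Module Λ M] [AddCommGroup N]
    [Module Λ N] (f : M →ₗ[Λ] N) : (E U).obj (ModuleCat.of Λ M) →ₗ[Λ] (E U).obj (ModuleCat.of Λ N) :=
  ((E U).map (ModuleCat.ofHom f)).hom

section Em

variable (U : X.ProEt) {M N P : Type (u + 1)} [AddCommGroup M] [Module Λ M] [AddCommGroup N]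
  [Module Λ N] [AddCommGroup P] [Module Λ P]

lemma Em_comp (g : N →ₗ[Λ] P) (f : M →ₗ[Λ] N) (x : (E U).obj (ModuleCat.of Λ M)) :
    Em U g (Em U f x) = Em U (g.comp f) x := by
  exact (ConcreteCategory.congr_hom ((E U).map_comp (ModuleCat.ofHom f) (ModuleCat.ofHom g)) x).symm

lemma Em_id (x : (E U).obj (ModuleCat.of Λ M)) : Em U LinearMap.id x = x :=
  ConcreteCategory.congr_hom ((E U).map_id (ModuleCat.of Λ M)) x

lemma Em_zero : Em U (0 : M →ₗ[Λ] N) = 0 :=
  congrArg ModuleCat.Hom.hom ((E U).map_zero (ModuleCat.of Λ M) (ModuleCat.of Λ N))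

lemma Em_add (f g : M →ₗ[Λ] N) : Em U (f + g) = Em U f + Em U g :=
  congrArg ModuleCat.Hom.hom ((E U).map_add (f := ModuleCat.ofHom f) (g := ModuleCat.ofHom g))

lemma Em_sub (f g : M →ₗ[Λ] N) : Em U (f - g) = Em U f - Em U g :=
  congrArg ModuleCat.Hom.hom ((E U).map_sub (f := ModuleCat.ofHom f) (g := ModuleCat.ofHom g))

lemma Em_smul (c : Λ) (f : M →ₗ[Λ] N) : Em U (c • f) = c • Em U f :=
  congrArg ModuleCat.Hom.hom ((E U).map_smul c (ModuleCat.ofHom f))

lemma Em_sum {ι : Type*} (s : Finset ι) (f : ι → M →ₗ[Λ] N) :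
    Em U (∑ i ∈ s, f i) = ∑ i ∈ s, Em U (f i) := by
  classical
  induction s using Finset.induction with
  | empty => simp [Em_zero]
  | insert i s hi ih => rw [Finset.sum_insert hi, Finset.sum_insert hi, Em_add, ih]

variable {U} (hU : ProEtS.IsWC U)

include hU in
lemma Em_surjective {f : M →ₗ[Λ] N} (hf : Function.Surjective f) : Function.Surjective (Em U f) := by
  have : Epi (ModuleCat.ofHom f) := (ModuleCat.epi_iff_surjective _).2 hf
  exact epi_app_surjective hU ((cst Λ X).map (ModuleCat.ofHom f))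

include hU in
lemma Em_exact (p : M →ₗ[Λ] N) (κ : P →ₗ[Λ] M) (h : LinearMap.ker p ≤ LinearMap.range κ)
    {x : (E U).obj (ModuleCat.of Λ M)} (hx : Em U p x = 0) : ∃ y, Em U κ y = x := by
  have hS := ShortComplex.exact_of_f_is_kernel
    ((ShortComplex.mk (ModuleCat.ofHom (LinearMap.ker p).subtype) (ModuleCat.ofHom p)
      (ModuleCat.hom_ext (LinearMap.ext fun z => z.2))).map (E U))
    (KernelFork.mapIsLimit _ (ModuleCat.kernelIsLimit (ModuleCat.ofHom p)) (E U))
  obtain ⟨z, hz⟩ := (ShortComplex.moduleCat_exact_iff _).1 hS x hx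
  let i : LinearMap.ker p →ₗ[Λ] LinearMap.range κ := Submodule.inclusion h
  obtain ⟨y, hy⟩ := Em_surjective hU (LinearMap.surjective_rangeRestrict κ) (Em U i z)
  refine ⟨y, ?_⟩
  have h1 := congrArg (Em U (LinearMap.range κ).subtype) hy
  rw [Em_comp, Em_comp] at h1
  exact h1.trans hz

end Em

section Theta

variable {r : ℕ} (a : Fin r → Λ)

local notation "I" => Ideal.span (Set.range a)

variable (Λ X r) in
/-- Formal series in the constant sheaf. -/
noncomputable abbrev R : EtModW.ModP Λ X := ∏ᶜ fun _ : Fin r → ℕ => (cst Λ X).obj (ModuleCat.of Λ Λ)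

/-- The coefficient. -/
noncomputable abbrev co (α : Fin r → ℕ) : R Λ X r ⟶ (cst Λ X).obj (ModuleCat.of Λ Λ) :=
  Pi.π (fun _ : Fin r → ℕ => (cst Λ X).obj (ModuleCat.of Λ Λ)) α

/-- Truncation of formal series. -/
noncomputable def xn (n : ℕ) : R Λ X r ⟶ (cst Λ X).obj (ModuleCat.of Λ (Q Λ r n)) :=
  ∑ α ∈ D r n, co α ≫ (cst Λ X).map (ModuleCat.ofHom (mon n α))

lemma mon_res {m n : ℕ} (h : m ≤ n) (α : Fin r → ℕ) : (res h).comp (mon (A := Λ) n α) = mon m α := rfl

lemma mon_eq_zero {n : ℕ} {α : Fin r → ℕ} (h : n ≤ deg α) : mon (A := Λ) n α = 0 := by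
  refine LinearMap.ext fun x => (Submodule.Quotient.mk_eq_zero _).2
    ((MvPolynomial.mem_pow_idealOfVars_iff' n _).2 fun β hβ => ?_)
  rw [MvPolynomial.coeff_monomial, if_neg]
  rintro rfl
  rw [degree_expo] at hβ
  omega

lemma xn_res {m n : ℕ} (h : m ≤ n) :
    xn (X := X) (Λ := Λ) n ≫ (cst Λ X).map (ModuleCat.ofHom (res h)) = xn (r := r) m := by
  simp only [xn, Preadditive.sum_comp, Category.assoc, ← Functor.map_comp, ← ModuleCat.ofHom_comp, mon_res]
  refine (Finset.sum_subset (fun α hα => mem_D.2 ((mem_D.1 hα).trans_le h)) fun α _ hα => ?_).symm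
  rw [mon_eq_zero (not_lt.1 fun hlt => hα (mem_D.2 hlt))]
  rw [show ModuleCat.ofHom (0 : Λ →ₗ[Λ] Q Λ r m) = 0 from rfl, Functor.map_zero, comp_zero]

/-- Truncated evaluation of series. -/
noncomputable def θn (n : ℕ) : R Λ X r ⟶ (ProEtDC.quotTower Λ I ⋙ cst Λ X).obj (op n) :=
  xn n ≫ (cst Λ X).map (ModuleCat.ofHom (evQ a n))

/-- Evaluation of series. -/
noncomputable def θ : R Λ X r ⟶ ProEtDC.lambdaHat Λ X I :=
  limit.lift _
    { pt := R Λ X r
      π := { app := fun n => θn a n.unop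
             naturality := fun n m g => by
              dsimp only [Functor.const_obj_obj, Functor.const_obj_map]
              rw [Category.id_comp]
              show θn a m.unop = θn a n.unop ≫ (cst Λ X).map ((ProEtDC.quotTower Λ I).map g)
              rw [θn, θn, Category.assoc, ← Functor.map_comp,
                ← xn_res (X := X) (leOfHom g.unop), Category.assoc, ← Functor.map_comp]
              exact congrArg (fun t => xn n.unop ≫ (cst Λ X).map (ModuleCat.ofHom t)) (evQ_res a (leOfHom g.unop)) } }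

lemma θ_π (n : ℕ) : θ a ≫ limit.π (ProEtDC.quotTower Λ I ⋙ cst Λ X) (op n) = θn a n :=
  limit.lift_π _ _

/-- The element of series with given coefficients. -/
lemma exists_series (U : X.ProEt) (c : (Fin r → ℕ) → (E U).obj (ModuleCat.of Λ Λ)) :
    ∃ x : (ev U).obj (R Λ X r), ∀ α, ((ev U).map (co α)).hom x = c α := by
  have hl := isLimitOfPreserves (ev (Λ := Λ) U)
    (limit.isLimit (Discrete.functor fun _ : Fin r → ℕ => (cst Λ X).obj (ModuleCat.of Λ Λ)))
  let s : Cone (Discrete.functor (fun _ : Fin r → ℕ => (cst Λ X).obj (ModuleCat.of Λ Λ)) ⋙ ev U) :=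
    ⟨ModuleCat.of Λ Λ, Discrete.natTrans fun α => ModuleCat.ofHom (LinearMap.toSpanSingleton Λ _ (c α.as))⟩
  refine ⟨(hl.lift s).hom 1, fun α => ?_⟩
  exact (ConcreteCategory.congr_hom (hl.fac s ⟨α⟩) (1 : Λ)).trans (one_smul Λ (c α))

lemma xn_apply (U : X.ProEt) (n : ℕ) (x : (ev U).obj (R Λ X r)) :
    ((ev U).map (xn n)).hom x = ∑ α ∈ D r n, Em U (mon n α) (((ev U).map (co α)).hom x) := by
  simp only [xn, Functor.map_sum, Functor.map_comp]
  rw [ModuleCat.hom_sum, LinearMap.sum_apply]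
  rfl

lemma coef_xn (U : X.ProEt) {n : ℕ} (α : Fin r → ℕ) (h : deg α < n) (x : (ev U).obj (R Λ X r)) :
    Em U (coef α h) (((ev U).map (xn n)).hom x) = ((ev U).map (co α)).hom x := by
  rw [xn_apply, map_sum, Finset.sum_eq_single α]
  · rw [Em_comp, show (coef α h).comp (mon n α) = LinearMap.id from LinearMap.ext fun c => by
      show MvPolynomial.coeff (expo α) (MvPolynomial.monomial (expo α) c) = c
      simp]
    exact Em_id U _
  · intro β _ hne
    rw [Em_comp, show (coef α h).comp (mon n β) = 0 from LinearMap.ext fun c => by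
      show MvPolynomial.coeff (expo α) (MvPolynomial.monomial (expo β) c) = 0
      rw [MvPolynomial.coeff_monomial, if_neg]
      exact fun e => hne (by simpa using congrArg (fun t : Fin r →₀ ℕ => (t : Fin r → ℕ)) e), Em_zero]
    rfl
  · exact fun hn => absurd (mem_D.2 h) hn

variable {U : X.ProEt} (hU : ProEtS.IsWC U)

include hU in
/-- Every section of `Λ^` is a series. -/
lemma θ_app_surjective : Function.Surjective ((ev U).map (θ (X := X) a)).hom := by
  intro y
  let yn : ∀ n : ℕ, (E U).obj (ModuleCat.of Λ (Λ ⧸ (I ^ n • ⊤ : Submodule Λ Λ))) := fun n =>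
    ((ev U).map (limit.π (ProEtDC.quotTower Λ I ⋙ cst Λ X) (op n))).hom y
  have hy : ∀ {m n : ℕ} (h : m ≤ n), Em U (Submodule.factorPow I Λ h) (yn n) = yn m := fun {m n} h => by
    show ((ev U).map (limit.π (ProEtDC.quotTower Λ I ⋙ cst Λ X) (op n)) ≫
      (ev U).map ((ProEtDC.quotTower Λ I ⋙ cst Λ X).map (homOfLE h).op)).hom y = _
    rw [← Functor.map_comp, limit.w]
  let S : ∀ n, Type (u + 1) := fun n => {x : (E U).obj (ModuleCat.of Λ (Q Λ r n)) // Em U (evQ a n) x = yn n}
  have step : ∀ n (x : S n), ∃ x' : S (n + 1), Em U (res n.le_succ) x'.1 = x.1 := by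
    rintro n ⟨x, hx⟩
    obtain ⟨w, hw⟩ := Em_surjective hU (evQ_surjective a (n + 1)) (yn (n + 1))
    have hd : Em U (evQ a n) (Em U (res n.le_succ) w - x) = 0 := by
      rw [map_sub, hx, Em_comp, evQ_res, ← Em_comp, hw, hy, sub_self]
    obtain ⟨g, hg⟩ := Em_exact hU (evQ a n) (kzQ a n) (ker_evQ_le a n) hd
    obtain ⟨g', rfl⟩ := Em_surjective hU (res'_surjective (A := Λ) (r := r) n.le_succ) g
    refine ⟨⟨w - Em U (kzQ a (n + 1)) g', ?_⟩, ?_⟩
    · rw [map_sub, hw, Em_comp]
      have : (evQ a (n + 1)).comp (kzQ a (n + 1)) = 0 := LinearMap.ext fun z => by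
        obtain ⟨z, rfl⟩ := mkQ'_surjective (n + 1) z
        show evQ a (n + 1) (kzQ a (n + 1) (mkQ' (n + 1) z)) = 0
        rw [kzQ_mk, evQ_mk, eval_kz]
        rfl
      rw [this, Em_zero]
      exact sub_zero _
    · rw [Em_comp, ← res_kzQ, ← Em_comp] at hg
      show Em U (res n.le_succ) (w - Em U (kzQ a (n + 1)) g') = x
      rw [map_sub, hg, sub_sub_cancel]
  choose next hnext using step
  obtain ⟨x0, hx0⟩ := Em_surjective hU (evQ_surjective a 0) (yn 0)
  let xs : ∀ n, S n := fun n => Nat.rec (motive := S) ⟨x0, hx0⟩ next n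
  have hcompat : ∀ {m n : ℕ} (h : m ≤ n), Em U (res h) (xs n).1 = (xs m).1 := fun {m n} h => by
    induction h with
    | refl =>
      rw [show res (A := Λ) (r := r) (le_refl m) = LinearMap.id from
        LinearMap.ext fun z => by obtain ⟨z, rfl⟩ := Submodule.mkQ_surjective _ z; rfl]
      exact Em_id U _
    | @step k hk ih =>
      rw [show res (A := Λ) (r := r) (hk.step) = (res hk).comp (res k.le_succ) from
        LinearMap.ext fun z => by obtain ⟨z, rfl⟩ := Submodule.mkQ_surjective _ z; rfl, ← Em_comp]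
      exact (congrArg _ (hnext k (xs k))).trans ih
  obtain ⟨c, hc⟩ := exists_series U fun α => Em U (coef α (Nat.lt_succ_self (deg α))) (xs (deg α + 1)).1
  refine ⟨c, ?_⟩
  have hl := isLimitOfPreserves (ev (Λ := Λ) U) (limit.isLimit (ProEtDC.quotTower Λ I ⋙ cst Λ X))
  refine Concrete.isLimit_ext _ hl _ _ fun n => ?_
  show ((ev U).map (θ a) ≫ (ev U).map (limit.π _ n)).hom c = yn n.unop
  rw [← Functor.map_comp]
  refine (congrArg (fun t => ((ev U).map t).hom c) (θ_π a n.unop)).trans ?_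
  show Em U (evQ a n.unop) (((ev U).map (xn n.unop)).hom c) = _
  rw [← (xs n.unop).2]
  refine congrArg _ ?_
  rw [xn_apply]
  conv_rhs => rw [← Em_id U (xs n.unop).1, ← sum_mon_coef n.unop, Em_sum, LinearMap.sum_apply]
  rw [← Finset.sum_attach (D r n.unop)]
  refine Finset.sum_congr rfl fun α _ => ?_
  rw [hc, ← Em_comp]
  refine congrArg _ ?_
  rw [← hcompat (mem_D.1 α.2), Em_comp, coef_res]

variable [IsNoetherianRing Λ]

include hU in
/-- Series evaluating to zero in `Λ^` are Koszul boundaries. -/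
lemma exists_boundary (x : (ev U).obj (R Λ X r)) (hx : ((ev U).map (θ a)).hom x = 0) :
    ∃ b : Fin r → (Fin r → ℕ) → (E U).obj (ModuleCat.of Λ Λ),
      (fun α => ((ev U).map (co α)).hom x) = ∑ j, (shift j (b j) - a j • b j) := by
  let X' : ∀ n, (E U).obj (ModuleCat.of Λ (Q Λ r n)) := fun n => ((ev U).map (xn n)).hom x
  have hres : ∀ {m n : ℕ} (h : m ≤ n), Em U (res h) (X' n) = X' m := fun {m n} h => by
    show ((ev U).map (xn n) ≫ (ev U).map ((cst Λ X).map (ModuleCat.ofHom (res h)))).hom x = _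
    rw [← Functor.map_comp, xn_res]
  have hev : ∀ n, Em U (evQ a n) (X' n) = 0 := fun n => by
    show ((ev U).map (xn n) ≫ (ev U).map ((cst Λ X).map (ModuleCat.ofHom (evQ a n)))).hom x = 0
    rw [← Functor.map_comp]
    refine (congrArg (fun t => ((ev U).map t).hom x) (θ_π (X := X) a n).symm).trans ?_
    rw [Functor.map_comp, ModuleCat.hom_comp, LinearMap.comp_apply, hx, map_zero]
  obtain ⟨c, hc⟩ := exists_ker_kzQ a
  let S : ℕ → Type (u + 1) := fun n =>
    {g : (E U).obj (ModuleCat.of Λ (Q' Λ r (n + c))) // Em U (kzQ a (n + c)) g = X' (n + c)}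
  have hex : ∀ n, ∃ g, Em U (kzQ a n) g = X' n := fun n =>
    Em_exact hU (evQ a n) (kzQ a n) (ker_evQ_le a n) (hev n)
  have step : ∀ n (g : S n), ∃ g' : S (n + 1),
      Em U (res' (n.le_succ.trans (Nat.le_add_right (n + 1) c))) g'.1 = Em U (res' (Nat.le_add_right n c)) g.1 := by
    rintro n ⟨g, hg⟩
    obtain ⟨h, hh⟩ := hex (n + 1 + c)
    have hle : n + c ≤ n + 1 + c := by omega
    have hd : Em U (kzQ a (n + c)) (Em U (res' hle) h - g) = 0 := by
      rw [map_sub, hg, Em_comp, ← res_kzQ, ← Em_comp, hh, hres, sub_self]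
    obtain ⟨z, hz⟩ := Em_exact hU (kzQ a (n + c)) (LinearMap.ker (kzQ a (n + c))).subtype
      (by rw [Submodule.range_subtype]) hd
    let ρ := (res' (A := Λ) (r := r) (Nat.le_add_right n c)).comp (LinearMap.ker (kzQ a (n + c))).subtype
    let i : LinearMap.ker (kzQ a (n + c)) →ₗ[Λ] LinearMap.range (kIncl a n) :=
      ρ.codRestrict _ fun y => hc n y.1 y.2
    obtain ⟨k, hk⟩ := Em_surjective hU (LinearMap.surjective_rangeRestrict (kIncl a n)) (Em U i z)
    have hk' : Em U (kIncl a n) k = Em U (res' (Nat.le_add_right n c)) (Em U (res' hle) h - g) := by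
      rw [← hz, Em_comp]
      have := congrArg (Em U (LinearMap.range (kIncl a n)).subtype) hk
      rw [Em_comp, Em_comp] at this
      exact this
    refine ⟨⟨h - Em U (kIncl a (n + 1 + c)) k, ?_⟩, ?_⟩
    · rw [map_sub, hh, Em_comp, kzQ_kIncl, Em_zero]
      exact sub_zero _
    · show Em U (res' _) (h - Em U (kIncl a (n + 1 + c)) k) = _
      rw [map_sub, Em_comp, res_kIncl, hk', map_sub, Em_comp, res'_res']
      exact sub_sub_cancel _ _
  choose next hnext using step
  obtain ⟨g0, hg0⟩ := hex (0 + c)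
  let gs : ∀ n, S n := fun n => Nat.rec (motive := S) ⟨g0, hg0⟩ next n
  let G : ∀ n, (E U).obj (ModuleCat.of Λ (Q' Λ r n)) := fun n => Em U (res' (Nat.le_add_right n c)) (gs n).1
  have hG : ∀ n, Em U (kzQ a n) (G n) = X' n := fun n => by
    rw [Em_comp, ← res_kzQ, ← Em_comp, (gs n).2, hres]
  have hcompat : ∀ {m n : ℕ} (h : m ≤ n), Em U (res' h) (G n) = G m := fun {m n} h => by
    induction h with
    | refl =>
      rw [show res' (A := Λ) (r := r) (le_refl m) = LinearMap.id from
        LinearMap.ext fun z => by obtain ⟨z, rfl⟩ := mkQ'_surjective m z; rfl]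
      exact Em_id U _
    | @step k hk ih =>
      refine Eq.trans ?_ ih
      rw [← res'_res' hk k.le_succ, ← Em_comp]
      refine congrArg _ ?_
      show Em U (res' k.le_succ) (Em U (res' (Nat.le_add_right (k + 1) c)) (gs (k + 1)).1) = _
      rw [Em_comp, res'_res']
      exact hnext k (gs k)
  let b : Fin r → (Fin r → ℕ) → (E U).obj (ModuleCat.of Λ Λ) := fun j α =>
    Em U ((coef α (Nat.lt_succ_self (deg α))).comp (LinearMap.proj j)) (G (deg α + 1))
  have hb : ∀ j (α : Fin r → ℕ) {n : ℕ} (h : deg α < n),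
      Em U ((coef α h).comp (LinearMap.proj j)) (G n) = b j α := fun j α n h => by
    show _ = Em U ((coef α (Nat.lt_succ_self (deg α))).comp (LinearMap.proj j)) (G (deg α + 1))
    rw [← hcompat (show deg α + 1 ≤ n from h)]
    refine Eq.trans ?_ (Em_comp U _ _ _).symm
    refine LinearMap.congr_fun (congrArg (fun t : Q' Λ r n →ₗ[Λ] Λ => Em U t) ?_) (G n)
    rw [← coef_res (show deg α + 1 ≤ n from h) α (Nat.lt_succ_self _)]
    rfl
  refine ⟨b, funext fun α => ?_⟩
  rw [← coef_xn U α (Nat.lt_succ_self (deg α)) x, show ((ev U).map (xn (deg α + 1))).hom x = X' _ from rfl,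
    ← hG, Em_comp, coef_kzQ, Em_sum, LinearMap.sum_apply, Finset.sum_apply]
  refine Finset.sum_congr rfl fun j _ => ?_
  rw [LinearMap.sub_comp, LinearMap.smul_comp, Em_sub, Em_smul]
  show Em U _ (G _) - a j • Em U _ (G _) = shift j (b j) α - a j • b j α
  refine congrArg₂ (· - ·) ?_ (congrArg (a j • ·) (hb j α _))
  unfold coefShift shift
  by_cases h0 : α j = 0
  · rw [if_pos h0, if_pos h0, LinearMap.zero_comp, Em_zero]
    rfl
  · rw [if_neg h0, if_neg h0]
    exact hb j _ _

end Theta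

section Extend

variable [IsNoetherianRing Λ] {r : ℕ} (a : Fin r → Λ) {F : EtModW.ModP Λ X}
  (hF : ProEtDC.IsDCSheaf Λ (Ideal.span (Set.range a)) F) (s : (cst Λ X).obj (ModuleCat.of Λ Λ) ⟶ F)

/-- Summing series in a derived complete sheaf. -/
noncomputable def sumHom : R Λ X r ⟶ F :=
  ⟨{ app := fun U => ModuleCat.ofHom ((Series.sum a fun j => tbm_all hF (Ideal.subset_span ⟨j, rfl⟩) U.unop).comp
      (LinearMap.pi fun α => ((co (Λ := Λ) α ≫ s).hom.app U).hom))
     naturality := fun U V g => ModuleCat.hom_ext (LinearMap.ext fun x => by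
      refine Eq.trans ?_ (sum_map a _ (fun j => tbm_all hF (Ideal.subset_span ⟨j, rfl⟩) V.unop) (F.obj.map g).hom _).symm
      refine congrArg _ (funext fun α => ?_)
      exact ConcreteCategory.congr_hom ((co (Λ := Λ) α ≫ s).hom.naturality g) x) }⟩

omit [IsNoetherianRing Λ] in
lemma θ_epi : Epi (θ (X := X) a) := ⟨fun {Z} g h e => isSeparating _ _ fun P hP t => by
  obtain ⟨U, hU, rfl⟩ := hP
  refine (sec U _).injective ?_
  rw [sec_comp, sec_comp]
  obtain ⟨x, hx⟩ := θ_app_surjective a hU (sec U _ t)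
  rw [← hx]
  exact congrArg (fun w => ((ev U).map w).hom x) e⟩

lemma ker_θ_sumHom : kernel.ι (θ a) ≫ sumHom a hF s = 0 := isSeparating _ _ fun P hP t => by
  obtain ⟨U, hU, rfl⟩ := hP
  refine (sec U _).injective ?_
  rw [sec_comp, sec_comp]
  set z := sec U _ t
  set x := ((ev U).map (kernel.ι (θ a))).hom z
  have hx : ((ev U).map (θ a)).hom x = 0 := by
    show ((ev U).map (kernel.ι (θ a)) ≫ (ev U).map (θ a)).hom z = 0
    rw [← Functor.map_comp, kernel.condition, Functor.map_zero]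
    rfl
  obtain ⟨b, hb⟩ := exists_boundary a hU x hx
  show ((ev U).map (sumHom a hF s)).hom x = (0 : F.obj.obj (op U))
  let σ := ((ev U).map s).hom
  show Series.sum a _ (fun α => σ (((ev U).map (co α)).hom x)) = 0
  refine Eq.trans ?_ (sum_koszul a (fun j => tbm_all hF (Ideal.subset_span ⟨j, rfl⟩) U) fun j α => σ (b j α))
  refine congrArg _ (funext fun α => ?_)
  rw [congrFun hb α, Finset.sum_apply, map_sum, Finset.sum_apply]
  refine Finset.sum_congr rfl fun j _ => ?_
  simp only [Pi.sub_apply, Pi.smul_apply, map_sub, map_smul, shift]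
  by_cases h0 : α j = 0
  · rw [if_pos h0, if_pos h0]
    exact congrArg (· - _) (map_zero σ)
  · rw [if_neg h0, if_neg h0]

include hF in
/-- **Maps from the constant sheaf to a derived complete sheaf extend to the completion.** -/
theorem exists_extend :
    ∃ ψ : ProEtDC.lambdaHat Λ X (Ideal.span (Set.range a)) ⟶ F,
      ∃ c₀ : (cst Λ X).obj (ModuleCat.of Λ Λ) ⟶ ProEtDC.lambdaHat Λ X (Ideal.span (Set.range a)),
        c₀ ≫ ψ = s := by
  classical
  have := θ_epi (X := X) a
  have hS : (ShortComplex.mk (kernel.ι (θ (X := X) a)) (θ a) (kernel.condition _)).Exact :=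
    ShortComplex.exact_kernel _
  have : Epi (ShortComplex.mk (kernel.ι (θ (X := X) a)) (θ a) (kernel.condition _)).g := this
  obtain ⟨ψ, hψ⟩ : ∃ ψ, θ a ≫ ψ = sumHom a hF s :=
    ⟨_, hS.g_desc (sumHom a hF s) (ker_θ_sumHom a hF s)⟩
  let ι₀ : (cst Λ X).obj (ModuleCat.of Λ Λ) ⟶ R Λ X r := Pi.lift fun α => if α = 0 then 𝟙 _ else 0
  refine ⟨ψ, ι₀ ≫ θ a, ?_⟩
  rw [Category.assoc, hψ]
  apply Sheaf.hom_ext
  ext ⟨U⟩ z
  show Series.sum a _ (fun α => ((co (Λ := Λ) α ≫ s).hom.app (op U)).hom (((ev U).map ι₀).hom z)) = _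
  have hco : ∀ α, ((co (Λ := Λ) α ≫ s).hom.app (op U)).hom (((ev U).map ι₀).hom z) =
      ((ev U).map ((if α = 0 then 𝟙 _ else 0) ≫ s)).hom z := fun α => by
    show (((ev U).map ι₀) ≫ (ev U).map (co α ≫ s)).hom z = _
    rw [← Functor.map_comp, ← Category.assoc, show ι₀ ≫ co α = (if α = 0 then 𝟙 _ else 0) from Pi.lift_π _ _]
  rw [sum_single _ _ _ fun α hα => by rw [hco, if_neg hα, zero_comp, Functor.map_zero]; rfl, hco, if_pos rfl,
    Category.id_comp]
  rfl

end Extend

end Groth.Agent.ProEtLib.DC
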