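import Groth.Agent.H9Misc.TBMod
import Mathlib.RingTheory.MvPolynomial.Ideal
import Mathlib.RingTheory.Filtration
import Mathlib.RingTheory.Polynomial.Basic
import Mathlib.Data.Fin.Tuple.Basic

/-!
# Series in derived complete modules and the polynomial model of completion

Sums of series `∑ a^α w_α` in modules with bijective telescopes, and the Artin-Rees input describing
the kernel of `Λ[T] → Λ`, `T_j ↦ a_j`, modulo powers of `(T)`.
-/

universe v w w'

namespace Groth.Agent.ProEtLib.DC.Series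

open Groth.Agent.H9Misc

variable {A : Type v} [CommRing A]

section One

variable {N : Type w} [AddCommGroup N] [Module A N] {N' : Type w'} [AddCommGroup N'] [Module A N']
  {f : A}

/-- The telescope as a linear map. -/
def tel (f : A) (N : Type w) [AddCommGroup N] [Module A N] : (ℕ → N) →ₗ[A] (ℕ → N) where
  toFun x k := x k - f • x (k + 1)
  map_add' x y := funext fun k => by simp only [Pi.add_apply, smul_add]; abel
  map_smul' c x := funext fun k => by simp [smul_sub, smul_comm c f]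

lemma bijective_tel (h : TBMod.TBm N f) : Function.Bijective (tel f N) := h

/-- `∑ fᵏ w_k`. -/
noncomputable def sum₁ (h : TBMod.TBm N f) : (ℕ → N) →ₗ[A] N :=
  (LinearMap.proj 0).comp (LinearEquiv.ofBijective _ (bijective_tel h)).symm.toLinearMap

lemma sum₁_tel (h : TBMod.TBm N f) (x : ℕ → N) : sum₁ h (tel f N x) = x 0 :=
  congrFun ((LinearEquiv.ofBijective _ (bijective_tel h)).symm_apply_apply x) 0

lemma sum₁_eq (h : TBMod.TBm N f) {w x : ℕ → N} (hx : ∀ k, x k - f • x (k + 1) = w k) : sum₁ h w = x 0 := by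
  rw [← sum₁_tel h x]
  exact congrArg _ (funext fun k => (hx k).symm)

lemma sum₁_map (h : TBMod.TBm N f) (h' : TBMod.TBm N' f) (g : N →ₗ[A] N') (w : ℕ → N) :
    g (sum₁ h w) = sum₁ h' fun k => g (w k) := by
  obtain ⟨x, rfl⟩ := (bijective_tel h).2 w
  rw [sum₁_tel]
  exact (sum₁_eq h' (x := fun k => g (x k)) fun k => by simp [tel]).symm

lemma sum₁_shift (h : TBMod.TBm N f) (w : ℕ → N) :
    sum₁ h (fun k => if k = 0 then 0 else w (k - 1)) = f • sum₁ h w := by
  obtain ⟨x, rfl⟩ := (bijective_tel h).2 w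
  rw [sum₁_tel]
  refine sum₁_eq h (x := fun k => if k = 0 then f • x 0 else x (k - 1)) fun k => ?_
  rcases k with _ | k <;> simp [tel]

lemma sum₁_single (h : TBMod.TBm N f) (w : ℕ → N) (hw : ∀ k, w (k + 1) = 0) : sum₁ h w = w 0 := by
  refine sum₁_eq h (x := w) fun k => ?_
  rw [hw, smul_zero, sub_zero]

end One

variable {N : Type w} [AddCommGroup N] [Module A N] {N' : Type w'} [AddCommGroup N'] [Module A N']

/-- `∑ a^α w_α`. -/
noncomputable def sum : ∀ {r : ℕ} (a : Fin r → A), (∀ j, TBMod.TBm N (a j)) → ((Fin r → ℕ) → N) →ₗ[A] N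
  | 0, _, _ => LinearMap.proj Fin.elim0
  | _ + 1, a, h => (sum₁ (h 0)).comp (LinearMap.pi fun k =>
      (sum (fun j => a j.succ) fun j => h j.succ).comp
        (LinearMap.funLeft A N fun β => Fin.cons k β))

lemma sum_succ {r : ℕ} (a : Fin (r + 1) → A) (h : ∀ j, TBMod.TBm N (a j)) (w : (Fin (r + 1) → ℕ) → N) :
    sum a h w = sum₁ (h 0) fun k => sum (fun j => a j.succ) (fun j => h j.succ) fun β => w (Fin.cons k β) := by
  rw [sum]; rfl

lemma sum_zero_fin (a : Fin 0 → A) (h : ∀ j, TBMod.TBm N (a j)) (w : (Fin 0 → ℕ) → N) :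
    sum a h w = w 0 := by
  rw [sum]
  exact congrArg w (Subsingleton.elim _ _)

lemma sum_map : ∀ {r : ℕ} (a : Fin r → A) (h : ∀ j, TBMod.TBm N (a j)) (h' : ∀ j, TBMod.TBm N' (a j))
    (g : N →ₗ[A] N') (w : (Fin r → ℕ) → N), g (sum a h w) = sum a h' fun α => g (w α)
  | 0, a, h, h', g, w => by rw [sum_zero_fin, sum_zero_fin]
  | r + 1, a, h, h', g, w => by
    rw [sum_succ, sum_succ, sum₁_map (h 0) (h' 0) g]
    exact congrArg _ (funext fun k => sum_map _ _ _ g _)

/-- Multiplication of a series by the `j`th variable. -/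
def shift {r : ℕ} (j : Fin r) (w : (Fin r → ℕ) → N) : (Fin r → ℕ) → N :=
  fun α => if α j = 0 then 0 else w (Function.update α j (α j - 1))

lemma sum_shift : ∀ {r : ℕ} (a : Fin r → A) (h : ∀ j, TBMod.TBm N (a j)) (j : Fin r)
    (w : (Fin r → ℕ) → N), sum a h (shift j w) = a j • sum a h w
  | 0, _, _, j, _ => j.elim0
  | r + 1, a, h, j, w => by
    induction j using Fin.cases with
    | zero =>
      rw [sum_succ, sum_succ, ← sum₁_shift (h 0)]
      refine congrArg _ (funext fun k => ?_)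
      rcases k with _ | k
      · simp only [shift, Fin.cons_zero, if_true]
        exact map_zero _
      · simp [shift, Fin.update_cons_zero]
    | succ i =>
      rw [sum_succ, sum_succ, ← map_smul]
      refine congrArg _ (funext fun k => ?_)
      rw [Pi.smul_apply, ← sum_shift (fun j => a j.succ) (fun j => h j.succ) i]
      refine congrArg _ (funext fun β => ?_)
      simp [shift, Fin.cons_succ, Fin.cons_update]

lemma sum_single : ∀ {r : ℕ} (a : Fin r → A) (h : ∀ j, TBMod.TBm N (a j)) (w : (Fin r → ℕ) → N),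
    (∀ α, α ≠ 0 → w α = 0) → sum a h w = w 0
  | 0, a, h, w, _ => sum_zero_fin a h w
  | r + 1, a, h, w, hw => by
    rw [sum_succ, sum₁_single]
    · rw [sum_single]
      · exact congrArg w (funext fun i => by induction i using Fin.cases <;> simp)
      · exact fun β hβ => hw _ fun he => hβ (funext fun i => by simpa using congrFun he i.succ)
    · intro k
      have : (fun β => w (Fin.cons (k + 1) β)) = 0 :=
        funext fun β => hw _ fun he => by simpa using congrFun he 0
      rw [this, map_zero]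

/-- Series in the kernel of evaluation sum to zero. -/
lemma sum_koszul {r : ℕ} (a : Fin r → A) (h : ∀ j, TBMod.TBm N (a j)) (b : Fin r → (Fin r → ℕ) → N) :
    sum a h (∑ j, (shift j (b j) - a j • b j)) = 0 := by
  rw [map_sum]
  exact Finset.sum_eq_zero fun j _ => by rw [map_sub, map_smul, sum_shift, sub_self]

section Poly

open MvPolynomial

variable {r : ℕ} (a : Fin r → A)

local notation "P" => MvPolynomial (Fin r) A
local notation "𝔪" => MvPolynomial.idealOfVars (Fin r) A
local notation "I" => Ideal.span (Set.range a)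

/-- `(g_j) ↦ ∑ (T_j - a_j) g_j`. -/
noncomputable def kz : (Fin r → P) →ₗ[P] P :=
  ∑ j, (X j - C (a j)) • LinearMap.proj j

lemma kz_apply (g : Fin r → P) : kz a g = ∑ j, (X j - C (a j)) * g j := by
  simp [kz]

lemma eval_kz (g : Fin r → P) : aeval a (kz a g) = 0 := by
  simp [kz_apply]

lemma eval_mem (n : ℕ) {x : P} (hx : x ∈ 𝔪 ^ n) : aeval a x ∈ I ^ n := by
  have h : Ideal.map (aeval a : P →ₐ[A] A).toRingHom 𝔪 ≤ I := by
    rw [Ideal.map_span, Ideal.span_le]
    rintro _ ⟨_, ⟨j, rfl⟩, rfl⟩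
    exact Ideal.subset_span ⟨j, by simp⟩
  have := Ideal.mem_map_of_mem (aeval a : P →ₐ[A] A).toRingHom hx
  rw [Ideal.map_pow] at this
  exact Ideal.pow_right_mono h n this

lemma mem_range_kz (n : ℕ) {x : P} (hx : aeval a x ∈ I ^ n) : ∃ g, x - kz a g ∈ 𝔪 ^ n := by
  suffices x ∈ LinearMap.range (kz a) ⊔ 𝔪 ^ n by
    obtain ⟨_, ⟨g, rfl⟩, z, hz, rfl⟩ := Submodule.mem_sup.1 this
    exact ⟨g, by simpa using hz⟩
  let J : Ideal P := LinearMap.range (kz a)
  have hJ : ∀ j, X j - C (a j) ∈ J := fun j => ⟨Pi.single j 1, by simp [kz_apply, Pi.single_apply]⟩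
  have h1 : ∀ y : P, y - C (aeval a y) ∈ J := by
    intro y
    induction y using MvPolynomial.induction_on with
    | C c => simp
    | add p q hp hq =>
      rw [map_add, map_add, add_sub_add_comm]
      exact add_mem hp hq
    | mul_X p j hp =>
      rw [map_mul, aeval_X, map_mul,
        show p * X j - C (aeval a p) * C (a j) = (p - C (aeval a p)) * X j + C (aeval a p) * (X j - C (a j)) by ring]
      exact add_mem (Ideal.mul_mem_right _ _ hp) (Ideal.mul_mem_left _ _ (hJ j))
  have hC : Ideal.map (C : A →+* P) I ≤ J ⊔ 𝔪 := by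
    rw [Ideal.map_span, Ideal.span_le]
    rintro _ ⟨_, ⟨j, rfl⟩, rfl⟩
    refine Submodule.mem_sup.2 ⟨-(X j - C (a j)), neg_mem (hJ j), X j, Ideal.subset_span ⟨j, rfl⟩, by ring⟩
  have hpow : (J ⊔ 𝔪) ^ n ≤ J ⊔ 𝔪 ^ n := by
    clear hx
    induction n with
    | zero => simp
    | succ n ih =>
      rw [pow_succ, pow_succ]
      refine (Ideal.mul_mono_left ih).trans ?_
      rw [Ideal.sup_mul, Ideal.mul_sup, Ideal.mul_sup]
      exact sup_le (sup_le (le_sup_of_le_left Ideal.mul_le_left) (le_sup_of_le_left Ideal.mul_le_left))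
        (sup_le (le_sup_of_le_left Ideal.mul_le_right) le_sup_right)
  have h2 : C (aeval a x) ∈ J ⊔ 𝔪 ^ n := by
    refine hpow (Ideal.pow_right_mono hC n ?_)
    rw [← Ideal.map_pow]
    exact Ideal.mem_map_of_mem _ hx
  simpa using add_mem (Submodule.mem_sup_left (h1 x) : _ ∈ J ⊔ 𝔪 ^ n) h2

/-- Artin-Rees for the Koszul map. -/
lemma exists_ker_kz [IsNoetherianRing A] : ∃ c, ∀ n (g : Fin r → P), kz a g ∈ 𝔪 ^ (n + c) →
    ∃ k, kz a k = 0 ∧ ∀ j, g j - k j ∈ 𝔪 ^ n := by
  obtain ⟨c, hc⟩ := Ideal.exists_pow_inf_eq_pow_smul (M := P) 𝔪 (LinearMap.range (kz a))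
  refine ⟨c, fun n g hg => ?_⟩
  have hmem : kz a g ∈ (𝔪 ^ n) • LinearMap.range (kz a) := by
    have h := hc (n + c) (Nat.le_add_left c n)
    rw [Nat.add_sub_cancel] at h
    refine Submodule.smul_mono le_rfl inf_le_right (h.le ⟨?_, LinearMap.mem_range_self _ g⟩)
    rwa [Ideal.smul_eq_mul, Ideal.mul_top]
  rw [LinearMap.range_eq_map, ← Submodule.map_smul''] at hmem
  obtain ⟨h, hh, he⟩ := hmem
  refine ⟨g - h, by rw [map_sub, he, sub_self], fun j => ?_⟩
  have : h j ∈ Submodule.map (LinearMap.proj j : (Fin r → P) →ₗ[P] P) (𝔪 ^ n • ⊤) := ⟨h, hh, rfl⟩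
  rw [Submodule.map_smul''] at this
  simpa using (Submodule.smul_mono (le_refl (𝔪 ^ n)) le_top : _ ≤ (𝔪 ^ n) • (⊤ : Submodule P P)) this

end Poly

end Groth.Agent.ProEtLib.DC.Series
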