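import Groth.Prelude.Def_ProEtDC
import Groth.Agent.ProEtLib.Cover
import Groth.Agent.H9Misc.TelLocal
import Groth.Agent.H9Misc.TelTransfer
import Groth.Agent.H9Misc.TBMod
import Groth.Agent.H9Misc.DRingTel
import Groth.Agent.SiteCmpLib.TotalRight
import Mathlib.CategoryTheory.Adjunction.Evaluation
import Mathlib.CategoryTheory.Linear.FunctorCategory
import Mathlib.Algebra.Category.ModuleCat.AB

/-!
# Derived complete pro-etale sheaves through telescopes on weakly contractible objects
-/

set_option backward.isDefEq.respectTransparency false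

universe u

open CategoryTheory CategoryTheory.Limits AlgebraicGeometry Opposite

attribute [local instance] HasDerivedCategory.standard

namespace Groth.Agent.ProEtLib.DC

open H9Misc

variable {Λ : Type (u + 1)} [CommRing Λ] {X : Scheme.{u}}

local notation "J" => Scheme.ProEt.topology X

noncomputable instance linearModP : Linear Λ (EtModW.ModP Λ X) :=
  inferInstanceAs (Linear Λ (ObjectProperty.FullSubcategory
    (Presheaf.IsSheaf (A := ModuleCat.{u + 1} Λ) (Scheme.ProEt.topology X))))

/-- Sections over `U`. -/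
noncomputable abbrev ev (U : X.ProEt) : EtModW.ModP Λ X ⥤ ModuleCat.{u + 1} Λ :=
  sheafToPresheaf J (ModuleCat.{u + 1} Λ) ⋙ (evaluation _ _).obj (op U)

/-- Left adjoint of sections over `U`. -/
noncomputable abbrev freeAt (U : X.ProEt) : ModuleCat.{u + 1} Λ ⥤ EtModW.ModP Λ X :=
  evaluationLeftAdjoint (ModuleCat.{u + 1} Λ) (op U) ⋙ presheafToSheaf J (ModuleCat.{u + 1} Λ)

noncomputable def freeAdj (U : X.ProEt) : freeAt (Λ := Λ) U ⊣ ev U :=
  (evaluationAdjunctionRight (ModuleCat.{u + 1} Λ) (op U)).comp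
    (sheafificationAdjunction J (ModuleCat.{u + 1} Λ))

instance preservesMono_evalLeft (U : X.ProEt) :
    (evaluationLeftAdjoint (ModuleCat.{u + 1} Λ) (op U)).PreservesMonomorphisms where
  preserves {M N} m _ := by
    have : ∀ T, Mono (((evaluationLeftAdjoint (ModuleCat.{u + 1} Λ) (op U)).map m).app T) := fun T => by
      let φ : Discrete.functor (fun _ : op U ⟶ T => M) ⟶ Discrete.functor (fun _ : op U ⟶ T => N) :=
        Discrete.natTrans fun _ => m
      have : ∀ i, Mono (φ.app i) := fun _ => inferInstanceAs (Mono m)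
      have : Mono φ := NatTrans.mono_of_mono_app φ
      have h : ((evaluationLeftAdjoint (ModuleCat.{u + 1} Λ) (op U)).map m).app T = colim.map φ :=
        Sigma.hom_ext _ _ fun i => by simp [evaluationLeftAdjoint, φ]
      have : HasExactColimitsOfShape (Discrete (op U ⟶ T)) (ModuleCat.{u + 1} Λ) :=
        HasExactColimitsOfShape.of_domain_equivalence (ModuleCat.{u + 1} Λ)
          (Discrete.equivalence (Equiv.ulift.{u + 1} : ULift.{u + 1} (op U ⟶ T) ≃ (op U ⟶ T)))
      rw [h]
      infer_instance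
    exact NatTrans.mono_of_mono_app _

instance preservesMono_freeAt (U : X.ProEt) : (freeAt (Λ := Λ) U).PreservesMonomorphisms :=
  have : (presheafToSheaf J (ModuleCat.{u + 1} Λ)).PreservesMonomorphisms := inferInstance
  inferInstanceAs (Functor.PreservesMonomorphisms (evaluationLeftAdjoint _ _ ⋙ presheafToSheaf J _))

/-- `j_{U!}Λ_f` is the free sheaf at `U` on `Λ_f`. -/
noncomputable def locExtIso (U : X.ProEt) (f : Λ) :
    (freeAt U).obj (ModuleCat.of Λ (Localization.Away f)) ≅ ProEtDC.locExt Λ U f :=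
  let a₁ := constantSheafAdj ((Scheme.ProEt.topology X).over U) (ModuleCat.{u + 1} Λ) (Over.mkIdTerminal (X := U))
  let a₂ := (Over.forget U).sheafAdjunctionContinuous (ModuleCat.{u + 1} Λ)
    ((Scheme.ProEt.topology X).over U) (Scheme.ProEt.topology X)
  let a := a₁.comp a₂
  ((freeAdj U).leftAdjointUniq (a.ofNatIsoRight (NatIso.ofComponents (fun _ => Iso.refl _)
    (fun _ => by simp)))).app _

/-- The free sheaf at `U`. -/
noncomputable abbrev F (U : X.ProEt) : EtModW.ModP Λ X := (freeAt U).obj (ModuleCat.of Λ Λ)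

/-- Maps out of the free sheaf are sections. -/
noncomputable def sec (U : X.ProEt) (M : EtModW.ModP Λ X) : (F U ⟶ M) ≃ M.obj.obj (op U) :=
  ((freeAdj U).homEquiv _ M).trans
    { toFun := fun φ => φ.hom (1 : Λ)
      invFun := fun x => ModuleCat.ofHom (LinearMap.toSpanSingleton Λ _ x)
      left_inv := fun _ => ModuleCat.hom_ext (LinearMap.ext_ring (one_smul Λ _))
      right_inv := fun x => one_smul Λ x }

lemma sec_comp (U : X.ProEt) {M N : EtModW.ModP Λ X} (φ : F U ⟶ M) (g : M ⟶ N) :
    sec U N (φ ≫ g) = (g.hom.app (op U)).hom (sec U M φ) :=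
  congrArg (fun t : ModuleCat.of Λ Λ ⟶ (ev U).obj N => t.hom (1 : Λ))
    ((freeAdj U).homEquiv_naturality_right φ g)

lemma sec_add (U : X.ProEt) {M : EtModW.ModP Λ X} (a b : F U ⟶ M) :
    sec U M (a + b) = sec U M a + sec U M b := by
  conv_lhs => rw [← Category.id_comp (a + b), sec_comp]
  conv_rhs => rw [← Category.id_comp a, ← Category.id_comp b, sec_comp, sec_comp]
  rfl

lemma sec_smul (U : X.ProEt) {M : EtModW.ModP Λ X} (r : Λ) (a : F U ⟶ M) :
    sec U M ((r • 𝟙 (F U)) ≫ a) = r • sec U M a := by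
  rw [Linear.smul_comp, Category.id_comp]
  conv_lhs => rw [← Category.id_comp (r • a), sec_comp]
  conv_rhs => rw [← Category.id_comp a, sec_comp]
  rfl

attribute [local simp] sec_comp in
lemma epi_app_surjective {U : X.ProEt} (hU : ProEtS.IsWC U) {M N : EtModW.ModP Λ X} (q : M ⟶ N) [Epi q] :
    Function.Surjective (q.hom.app (op U)).hom := by
  have h1 : Sheaf.IsLocallySurjective q := (Sheaf.isLocallySurjective_iff_epi' (φ := q)).2 inferInstance
  have h2 : Sheaf.IsLocallySurjective ((sheafCompose J (forget (ModuleCat.{u + 1} Λ))).map q) :=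
    { imageSieve_mem := fun s => Presheaf.imageSieve_mem (Scheme.ProEt.topology X) q.hom s }
  exact hU _ _ _ ((Sheaf.isLocallySurjective_iff_epi _).1 h2)

instance preservesEpi_ev {U : X.ProEt} [hU : Fact (ProEtS.IsWC U)] : (ev (Λ := Λ) U).PreservesEpimorphisms where
  preserves q _ := (ModuleCat.epi_iff_surjective _).2 (epi_app_surjective hU.out q)

lemma projective_F {U : X.ProEt} (hU : ProEtS.IsWC U) : Projective (F (Λ := Λ) U) :=
  have := Fact.mk hU
  have : Projective (ModuleCat.of Λ Λ) := ModuleCat.projective_of_free (ι := PUnit.{u + 2})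
    (Module.Basis.singleton PUnit.{u + 2} Λ)
  (freeAdj U).map_projective _ this

variable (Λ X) in
/-- Free sheaves at weakly contractible objects. -/
def Sep : ObjectProperty (EtModW.ModP Λ X) := fun P => ∃ U, ProEtS.IsWC U ∧ P = F U

lemma isSeparating : (Sep Λ X).IsSeparating := fun M N f g h => by
  apply Sheaf.hom_ext
  ext ⟨U⟩ x
  obtain ⟨V, p, hp, hV⟩ := exists_wc_cover U
  refine Presheaf.IsSheaf.isSeparated N.property U _ hp _ _ ?_
  rintro W k ⟨Z, a, _, ⟨⟩, rfl⟩
  have := congrArg (sec V N) (h (F V) ⟨V, hV, rfl⟩ ((sec V M).symm ((M.obj.map p.op).hom x)))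
  rw [sec_comp, sec_comp, Equiv.apply_symm_apply] at this
  have hn : ∀ e : M ⟶ N, (N.obj.map p.op).hom ((e.hom.app (op U)).hom x) =
      (e.hom.app (op V)).hom ((M.obj.map p.op).hom x) :=
    fun e => (ConcreteCategory.congr_hom (e.hom.naturality p.op) x).symm
  rw [op_comp, N.obj.map_comp]
  exact congrArg (N.obj.map a.op).hom ((hn f).trans (this.trans (hn g).symm))

/-- The presentation of `Λ_f`, spread out. -/
lemma forall_subsingleton_iff (U : X.ProEt) (f : Λ) (K : ProEtDC.DP Λ X) :
    (∀ n : ℤ, Subsingleton ((DerivedCategory.singleFunctor (EtModW.ModP Λ X) 0).obj (ProEtDC.locExt Λ U f) ⟶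
      K⟦n⟧)) ↔ TelOrth.TBOn (F U) (f • 𝟙 (F U)) K := by
  let L := freeAt (Λ := Λ) U
  have : PreservesColimitsOfSize.{0, 0} L := (freeAdj (Λ := Λ) U).leftAdjoint_preservesColimits
  have : L.Additive := (freeAdj U).left_adjoint_additive
  let S := (DRingTel.seqS f).map L
  have : AB4OfSize.{u + 1} (EtModW.ModP Λ X) := AB4.of_AB5 _
  have : AB4OfSize.{0} (EtModW.ModP Λ X) := AB4OfSize_shrink.{0, u + 1} (EtModW.ModP Λ X)
  have : HasExactColimitsOfShape (Discrete ℕ) (EtModW.ModP Λ X) := AB4OfSize.ofShape ℕ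
  have hS' := DRingTel.seqS_shortExact f
  have hS : S.ShortExact := by
    have := hS'.mono_f
    have := hS'.epi_g
    exact ShortComplex.ShortExact.mk' (ShortComplex.exact_of_g_is_cokernel S
      (CokernelCofork.mapIsColimit _ hS'.gIsCokernel L)) (inferInstanceAs (Mono (L.map (DRingTel.seqS f).f)))
      (inferInstanceAs (Epi (L.map (DRingTel.seqS f).g)))
  have hc : IsColimit (Cofan.mk S.X₁ fun k => L.map (DRingTel.ι k)) :=
    isColimitCofanMkObjOfIsColimit L _ DRingTel.ι DRingTel.isColimit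
  let e := (DerivedCategory.singleFunctor (EtModW.ModP Λ X) 0).mapIso (locExtIso U f)
  refine Iff.trans (forall_congr' fun n =>
    ((e.symm.homCongr (Iso.refl (K⟦n⟧))).subsingleton_congr)) ?_
  refine TelOrth.forall_subsingleton_iff_tbOn hS (f • 𝟙 (F U)) _ hc _ hc (fun k => ?_) K
  have hk : DRingTel.ι (A := Λ) k ≫ (DRingTel.seqS f).f =
      DRingTel.ι k - f • DRingTel.ι (k + 1) := ModuleCat.hom_ext (LinearMap.ext fun a => by
    show DRingTel.d f (Finsupp.single k a) = Finsupp.single k a - f • Finsupp.single (k + 1) a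
    rw [DRingTel.d_single, Finsupp.smul_single, smul_eq_mul])
  show L.map (DRingTel.ι k) ≫ L.map (DRingTel.seqS f).f = _
  rw [← L.map_comp, hk, L.map_sub, Linear.smul_comp, Category.id_comp]
  refine congrArg (L.map (DRingTel.ι k) - ·) ?_
  apply ((freeAdj U).homEquiv _ _).injective
  have : Functor.Linear Λ (ev (Λ := Λ) U) := { }
  simp only [Adjunction.homEquiv_unit, Functor.map_smul, Linear.comp_smul]
  exact ((freeAdj U).unit.naturality (f • DRingTel.ι (k + 1))).symm.trans
    ((Linear.smul_comp _ _ _ _ _ _).trans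
      (congrArg (f • ·) ((freeAdj U).unit.naturality (DRingTel.ι (k + 1)))))

/-- Telescopes on a weakly contractible object. -/
lemma tbOn_iff {U : X.ProEt} (hU : ProEtS.IsWC U) (f : Λ) (K : ProEtDC.DP Λ X) :
    TelOrth.TBOn (F U) (f • 𝟙 (F U)) K ↔
      ∀ p : ℤ, TBMod.TBm ((ProEtDC.HDP K p).obj.obj (op U)) f := by
  have := projective_F (Λ := Λ) hU
  refine forall_congr' fun n => (TelTransfer.tb_mu_iff_pre _ _ K n).trans ?_
  let H : EtModW.ModP Λ X := ProEtDC.HDP K n
  let b := (Equiv.ofBijective _ (KFlatLib.bijective_psiC_of_projective (P := F U) n K)).trans (sec U H)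
  let φ : ((DerivedCategory.singleFunctor (EtModW.ModP Λ X) n).obj (F U) ⟶ K) ≃+ H.obj.obj (op U) :=
    { b with
      map_add' := fun x y => by
        show sec U H (KFlatLib.psiC n (F U) K (x + y)) = _
        rw [KFlatLib.psiC, Functor.map_add, Preadditive.comp_add, sec_add]
        rfl }
  have hφ : ∀ x, φ (TelTransfer.pre ((DerivedCategory.singleFunctor (EtModW.ModP Λ X) n).map (f • 𝟙 (F U))) K x) =
      TBMod.mulBy (H.obj.obj (op U)) f (φ x) := fun x =>
    (congrArg (sec U H) (KFlatLib.psiC_single_map (f • 𝟙 (F U)) x)).trans (sec_smul U f _)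
  exact ⟨TelBij.tb_of_injective_surjective φ hφ, TelBij.tb_of_injective_surjective φ.symm fun y => by
    rw [← φ.apply_eq_iff_eq, hφ, φ.apply_symm_apply, φ.apply_symm_apply]⟩

/-- **Derived completeness through cohomology on weakly contractible objects.** -/
theorem isDC_iff (I : Ideal Λ) (K : ProEtDC.DP Λ X) :
    ProEtDC.IsDC Λ I K ↔ ∀ f ∈ I, ∀ (U : X.ProEt), ProEtS.IsWC U → ∀ p : ℤ,
      TBMod.TBm ((ProEtDC.HDP K p).obj.obj (op U)) f := by
  constructor
  · intro h f hf U hU
    exact (tbOn_iff hU f K).1 ((forall_subsingleton_iff U f K).1 (h U f hf))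
  · intro h U f hf
    have := SiteCmpLib.TotalRight.hasProducts (EtModW.ModP Λ X) ℕ
    refine (forall_subsingleton_iff U f K).2 (TelLocal.tbOn_of_separating f K _ isSeparating ?_ _)
    rintro _ ⟨V, hV, rfl⟩
    exact (tbOn_iff hV f K).2 (h f hf V hV)

lemma isDCSheaf_iff_isDC (I : Ideal Λ) (M : EtModW.ModP Λ X) :
    ProEtDC.IsDCSheaf Λ I M ↔ ProEtDC.IsDC Λ I ((DerivedCategory.singleFunctor _ 0).obj M) := by
  refine forall_congr' fun U => forall_congr' fun f => imp_congr_right fun _ => ⟨fun h n => ?_, fun h n => ?_⟩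
  · rcases lt_or_ge n 0 with hn | hn
    · refine ⟨fun a b => ?_⟩
      let t := DerivedCategory.TStructure.t (C := EtModW.ModP Λ X)
      have : t.IsGE ((DerivedCategory.singleFunctor (EtModW.ModP Λ X) 0).obj M) 0 :=
        inferInstanceAs (DerivedCategory.IsGE _ 0)
      have : t.IsGE (((DerivedCategory.singleFunctor (EtModW.ModP Λ X) 0).obj M)⟦n⟧) (-n) :=
        t.isGE_shift _ 0 n (-n) (by omega)
      have : t.IsLE ((DerivedCategory.singleFunctor (EtModW.ModP Λ X) 0).obj (ProEtDC.locExt Λ U f)) 0 :=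
        inferInstanceAs (DerivedCategory.IsLE _ 0)
      exact (t.zero a 0 (-n) (by omega)).trans (t.zero b 0 (-n) (by omega)).symm
    · obtain ⟨k, rfl⟩ := Int.eq_ofNat_of_zero_le hn
      exact (Abelian.Ext.homEquiv.subsingleton_congr).1 (h k)
  · exact (Abelian.Ext.homEquiv.subsingleton_congr).2 (h n)

/-- **Derived completeness of a sheaf.** -/
theorem isDCSheaf_iff (I : Ideal Λ) (M : EtModW.ModP Λ X) :
    ProEtDC.IsDCSheaf Λ I M ↔
      ∀ f ∈ I, ∀ (U : X.ProEt), ProEtS.IsWC U → TBMod.TBm (M.obj.obj (op U)) f := by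
  rw [isDCSheaf_iff_isDC, isDC_iff]
  let e := KFlatLib.hSingle 0 M
  have hsmul : ∀ U : X.ProEt, (ProEtDC.HDP ((DerivedCategory.singleFunctor _ 0).obj M) 0).obj.obj (op U) ≃ₗ[Λ]
      M.obj.obj (op U) := fun U => ((ev U).mapIso e).toLinearEquiv
  refine forall_congr' fun f => forall_congr' fun _ => forall_congr' fun U => forall_congr' fun _ =>
    ⟨fun h => (h 0).of_equiv (hsmul U), fun h p => ?_⟩
  by_cases hp : p = 0
  · subst hp
    exact h.of_equiv (hsmul U).symm
  · have hz : IsZero (ProEtDC.HDP ((DerivedCategory.singleFunctor _ 0).obj M) p) :=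
      (HomologicalComplex.isZero_single_obj_homology (ComplexShape.up ℤ) 0 M p hp).of_iso
        ((DerivedCategory.homologyFunctor (EtModW.ModP Λ X) p).mapIso (KFlatLib.singleQ 0 M) ≪≫
          (DerivedCategory.homologyFunctorFactors (EtModW.ModP Λ X) p).app _)
    have : (ev (Λ := Λ) U).PreservesZeroMorphisms := { }
    have : Subsingleton ((ProEtDC.HDP ((DerivedCategory.singleFunctor _ 0).obj M) p).obj.obj (op U)) :=
      ModuleCat.subsingleton_of_isZero ((ev U).map_isZero hz)
    exact TBMod.tbm_of_subsingleton f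

end Groth.Agent.ProEtLib.DC
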